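import Cfsg.Agent.Mrg.Omega.NOThreeL.RSplit.FiveG
import Cfsg.Agent.Mrg.Omega.NOThreeL.RTreeA


/-!
# NO-3L, box R ∩ (A), `q > 2`, `V_P` split (#19602, helper797): the plug into `RTreeA`

* `hyp_of` : `BigA`, `SplitBy` give `Hyp`;
* **`three : RTreeA.Three`**; **`splitE : RTreeA.SplitE`**;
* `natBig_of` : the leaves of `NatBig` are `NsOne`, `NsF`, `NsK`.
-/

set_option autoImplicit false

namespace Cfsg.Agent.Omega.NOThreeL.RSplit.Final

open Subgroup Cfsg Cfsg.Agent.ZN Cfsg.Agent.Omega.MinPar Cfsg.Agent.Omega.Frame Cfsg.Agent.Omega.FrameNOFF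
open Cfsg.Agent.Omega.Node.NO3L Cfsg.Agent.Omega.NOThreeL.Basic Cfsg.Agent.Omega.NOThreeL.Main
open Cfsg.Agent.Omega.FFThm (Off NatK NatKM)
open Cfsg.Agent.Omega.FrameFF (cv)
open Cfsg.Agent.Omega.NOThreeL.RTreeA

universe u

theorem hyp_of {G : Type u} [Group G] [Finite G] (hG : Ctx G) {S : Sylow 2 G} (Da : Data (S : Subgroup G))
    {P : Subgroup G} (hP : IsParS (S : Subgroup G) P) {F : Type} [Field F] {k : ℕ} (hk : 0 < k)
    (hF : 2 < Nat.card F) (M : NatK F (S : Subgroup G) P (zl (S : Subgroup G) P) (cv (S : Subgroup G) P) k)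
    {V₀ : Subgroup G} (hV : SplitBy (S : Subgroup G) P (cv (S : Subgroup G) P) V₀) : Hyp M V₀ where
  hc := hG.char2
  data := Da
  par := hP
  DV := inf_le_left
  V0V := hV.1
  PV0 := hV.2.1
  disj := hV.2.2.1
  sup := hV.2.2.2
  big := hF
  kpos := hk

/-- (3) of #19602. -/
theorem three : RTreeA.Three.{u} := fun _ _ _ hG _ Da _ hP _ _ _ _ _ hk hF M _ hV _ hz hzV h1 =>
  (hyp_of hG Da hP hk hF M.toNatK hV).three hzV hz h1

/-- **(5)-(7) of #19602.** -/
theorem splitE : RTreeA.SplitE.{u} := by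
  intro G _ _ S P H F _ _ _ k h M _ hne V₀ hV _
  have hH := hyp_of h.ctx h.data h.pair.par h.pos h.big M.toNatK hV
  refine hH.false_of_ne (H := H) ⟨h.pair, h.min⟩ ?_
  rwa [hH.cent_P] at hne

theorem splitOne : RTreeA.SplitOne.{u} := fun G _ _ S P H F _ _ _ h M E hne V₀ hV hO =>
  splitE G S P H F 1 h M E hne V₀ hV hO

/-- **`NatBig` from its nonsplit leaves.** -/
theorem natBig_of (h1 : NsOne.{u}) (hf : NsF.{u}) (hk : NsK.{u}) : NatBig.{u} :=
  RTreeA.natBig_of three splitE h1 hf hk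

/-- `NatBig` from THEOREM K and the nonsplit leaves, `k = 1`. -/
theorem natBig_of' (hK : ThmK.{u}) (h1 : NsOne.{u}) (hf : NsF.{u}) : NatBig.{u} :=
  RTreeA.natBig_of' three hK splitOne h1 hf

end Cfsg.Agent.Omega.NOThreeL.RSplit.Final
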