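import Cfsg.Agent.Mrg.Omega.NOThreeL.Star
import Cfsg.Agent.Mrg.Omega.NOThreeL.RTwo
import Cfsg.Agent.Mrg.Omega.NOThreeL.RStr.Act
import Cfsg.Agent.Mrg.Omega.NOThreeL.AOne
import Cfsg.Agent.Mrg.Omega.NOThreeL.RA.Base


/-!
# NO-3L, box R ∩ (A), `q > 2`, `V_P` split over `E = C_Z(P)` (#19602, helper797): the group level

`M : NatK F S P (zl S P) D k`, `D : Hyp M V₀`: `V = zl S P = V₀ × E`, `V₀` normal in `P`, `E ≤ C(P)`.

* `nn M V₀ i`, `rr M V₀ i` : the factors `N_i` of `V₀` and their `S`-lines `R_i`;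
* `Hyp.exists_beta` : `U = zl S H` (`PairA S P H`) acts on `N_i` as the root elements `β u i`;
* `Hyp.rt` : the instance of `Root.Rt` over the `H`-module `U`.
-/

set_option autoImplicit false
set_option linter.unusedSectionVars false

namespace Cfsg.Agent.Omega.NOThreeL.RSplit

open Subgroup Cfsg Cfsg.Agent.Omega.MinPar
open Cfsg.Agent.ZN (zc zl o2)
open Cfsg.Agent.Omega.Frame Cfsg.Agent.Omega.FrameNOFF
open Cfsg.Agent.Omega.Node.NO3L Cfsg.Agent.Omega.NOThreeL.Basic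
open Cfsg.Agent.Omega.NoFF.Basic (conj_conj mem_conj conj_le_iff conj_le_centralizer comm_symm comm_mono)
open Cfsg.Agent.Omega.NOThreeL.Pair (conj_eq_of_mem conj_le_normalizer zl_abel)
open Cfsg.Agent.MinSimple.VModule (zl_le zc_le_zl le_normalizer_zl zc_le o2_isPGroup le_normalizer_o2 le_o2
  normalizer_le_normalizer_zc mem_zc)
open Cfsg.Agent.Omega.FFThm (Off NatK ActsSL)
open Cfsg.Agent.Omega.NatPair (ap ap_mul ap_one ap_inv_ap)
open Cfsg.Agent.Lib.SL2Mat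
open Cfsg.Agent.Omega.NOThreeL.RAOne (ap_up' ap_lo')
open Cfsg.Agent.Omega.NOThreeL.RStr (exists_up)
open scoped Pointwise

universe u

variable {G : Type u} [Group G] {F : Type} [Field F] {k : ℕ}

/-- the factor `N_i` of `V₀` -/
def nn {S P D : Subgroup G} (M : NatK F S P (zl S P) D k) (V₀ : Subgroup G) (i : Fin k) : Subgroup G where
  carrier := {v | v ∈ V₀ ∧ v ∈ zl S P ∧ ∀ j, j ≠ i → M.e v j = 0}
  one_mem' := ⟨one_mem _, one_mem _, fun j _ => by rw [RStr.e_one M]; rfl⟩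
  mul_mem' := by
    rintro a b ⟨ha, ha', ha''⟩ ⟨hb, hb', hb''⟩
    refine ⟨mul_mem ha hb, mul_mem ha' hb', fun j hj => ?_⟩
    rw [M.mul a ha' b hb', Pi.add_apply, ha'' j hj, hb'' j hj, add_zero]
  inv_mem' := by
    rintro a ⟨ha, ha', ha''⟩
    refine ⟨inv_mem ha, inv_mem ha', fun j hj => ?_⟩
    rw [RStr.e_inv M ha', Pi.neg_apply, ha'' j hj, neg_zero]

/-- the `S`-line `R_i` of `N_i` -/
def rr {S P D : Subgroup G} (M : NatK F S P (zl S P) D k) (V₀ : Subgroup G) (i : Fin k) : Subgroup G where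
  carrier := {v | v ∈ nn M V₀ i ∧ M.e v i 1 = 0}
  one_mem' := ⟨one_mem _, by rw [RStr.e_one M]; rfl⟩
  mul_mem' := by
    rintro a b ⟨ha, ha'⟩ ⟨hb, hb'⟩
    refine ⟨mul_mem ha hb, ?_⟩
    rw [M.mul a ha.2.1 b hb.2.1, Pi.add_apply, Pi.add_apply, ha', hb', add_zero]
  inv_mem' := by
    rintro a ⟨ha, ha'⟩
    refine ⟨inv_mem ha, ?_⟩
    rw [RStr.e_inv M ha.2.1, Pi.neg_apply, Pi.neg_apply, ha', neg_zero]

theorem mem_nn {S P D : Subgroup G} {M : NatK F S P (zl S P) D k} {V₀ : Subgroup G} {i : Fin k} {v : G} :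
    v ∈ nn M V₀ i ↔ v ∈ V₀ ∧ v ∈ zl S P ∧ ∀ j, j ≠ i → M.e v j = 0 := Iff.rfl

theorem mem_rr {S P D : Subgroup G} {M : NatK F S P (zl S P) D k} {V₀ : Subgroup G} {i : Fin k} {v : G} :
    v ∈ rr M V₀ i ↔ v ∈ nn M V₀ i ∧ M.e v i 1 = 0 := Iff.rfl

/-- `D` is normal in `P` -/
theorem PD {S P D : Subgroup G} (M : NatK F S P (zl S P) D k) (hDV : D ≤ zl S P) : P ≤ normalizer (D : Set G) := by
  have con : ∀ {g v : G}, g ∈ P → v ∈ zl S P → g * v * g⁻¹ ∈ zl S P := fun hg hv =>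
    (mem_normalizer_iff.1 (le_normalizer_zl _ _ hg) _).1 hv
  have ker' : ∀ g ∈ P, ∀ v ∈ zl S P, M.e (g * v * g⁻¹) = 0 ↔ M.e v = 0 := by
    intro g hg v hv
    obtain ⟨σ, hσ⟩ := M.perm g hg
    constructor
    · intro h
      funext i
      exact (hσ v hv i).1 (congrFun h _)
    · intro h
      funext i
      obtain ⟨j, rfl⟩ := σ.surjective i
      exact (hσ v hv j).2 (congrFun h j)
  intro g hg
  rw [mem_normalizer_iff]
  intro x
  constructor
  · intro hx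
    have hxW := hDV hx
    rw [← M.ker _ (con hg hxW), ker' g hg x hxW]
    exact (M.ker x hxW).2 hx
  · intro hx
    have hxW : x ∈ zl S P := (mem_normalizer_iff.1 (le_normalizer_zl _ _ hg) _).2 (hDV hx)
    rw [← M.ker x hxW, ← ker' g hg x hxW]
    exact (M.ker _ (con hg hxW)).2 hx

theorem quad [Finite G] {S : Sylow 2 G} {P H : Subgroup G} (hc : IsCharacteristicTwoType G)
    (hPH : PairA (S : Subgroup G) P H) : AFour.Quad (S : Subgroup G) P (zl (S : Subgroup G) H) where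
  SP := hPH.par.le
  VS := IsParS.zl_le_S hc hPH.par
  US := IsLong.zl_le_S hc hPH.long
  SU := hPH.long.loc.le.trans (le_normalizer_zl _ _)
  ab := fun u hu v hv => mem_centralizer_iff.1 ((zl_abel hc S hPH.long.loc).1 hv) u hu
  sq := fun u hu => by
    have h1 := (mem_zc.1 (hPH.long.loc.zl_le S hc hu)).2.2
    rwa [pow_two] at h1

/-- The hypotheses on `P`: `V = V₀ × D` with `V₀` normal in `P`, `|F| > 2`. -/
structure Hyp [Finite G] {S : Sylow 2 G} {P D : Subgroup G}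
    (M : NatK F (S : Subgroup G) P (zl (S : Subgroup G) P) D k) (V₀ : Subgroup G) : Prop where
  hc : IsCharacteristicTwoType G
  data : DataLow (S : Subgroup G)
  par : IsParS (S : Subgroup G) P
  DV : D ≤ zl (S : Subgroup G) P
  V0V : V₀ ≤ zl (S : Subgroup G) P
  PV0 : P ≤ normalizer (V₀ : Set G)
  disj : V₀ ⊓ D = ⊥
  sup : zl (S : Subgroup G) P ≤ V₀ ⊔ D
  big : 2 < Nat.card F
  kpos : 0 < k

namespace Hyp

variable [Finite G] {S : Sylow 2 G} {P H D V₀ : Subgroup G}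
variable {M : NatK F (S : Subgroup G) P (zl (S : Subgroup G) P) D k} (h : Hyp M V₀)
include h

/-! ### elementary facts -/

theorem commV {x y : G} (hx : x ∈ zl (S : Subgroup G) P) (hy : y ∈ zl (S : Subgroup G) P) : x * y = y * x :=
  mem_centralizer_iff.mp ((zl_abel h.hc S h.par.isLoc).1 hy) x hx

theorem sqV {x : G} (hx : x ∈ zl (S : Subgroup G) P) : x * x = 1 := by
  have h := (zl_abel h.hc S h.par.isLoc).2 x hx
  rwa [pow_two] at h

theorem inv_V {x : G} (hx : x ∈ zl (S : Subgroup G) P) : x⁻¹ = x := inv_eq_of_mul_eq_one_left (h.sqV hx)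

theorem SP : (S : Subgroup G) ≤ P := h.par.le

theorem VS : zl (S : Subgroup G) P ≤ (S : Subgroup G) := IsParS.zl_le_S h.hc h.par

theorem VP : zl (S : Subgroup G) P ≤ P := h.VS.trans h.SP

omit h in
theorem conV {g v : G} (hg : g ∈ P) (hv : v ∈ zl (S : Subgroup G) P) : g * v * g⁻¹ ∈ zl (S : Subgroup G) P :=
  (mem_normalizer_iff.1 (le_normalizer_zl _ _ hg) _).1 hv

theorem conV0 {g v : G} (hg : g ∈ P) (hv : v ∈ V₀) : g * v * g⁻¹ ∈ V₀ :=
  (mem_normalizer_iff.1 (h.PV0 hg) _).1 hv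

theorem exists_mul {v : G} (hv : v ∈ zl (S : Subgroup G) P) : ∃ w ∈ V₀, ∃ d ∈ D, v = w * d := by
  have h1 := h.sup hv
  have h2 : V₀ ≤ normalizer (D : Set G) := h.V0V.trans (h.VP.trans (PD M h.DV))
  have h3 : v ∈ ((V₀ : Set G) * (D : Set G)) := by
    rw [← coe_mul_of_left_le_normalizer_right _ _ h2]
    exact h1
  obtain ⟨w, hw, d, hd, rfl⟩ := Set.mem_mul.1 h3
  exact ⟨w, hw, d, hd, rfl⟩

/-- `e` is injective on `V₀` -/
theorem inj {v w : G} (hv : v ∈ V₀) (hw : w ∈ V₀) (he : M.e v = M.e w) : v = w := by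
  have h1 : v * w⁻¹ ∈ D := by
    rw [← M.ker _ (mul_mem (h.V0V hv) (inv_mem (h.V0V hw))), M.mul _ (h.V0V hv) _ (inv_mem (h.V0V hw)),
      RStr.e_inv M (h.V0V hw), he, add_neg_cancel]
  have h2 : v * w⁻¹ ∈ V₀ ⊓ D := mem_inf.2 ⟨mul_mem hv (inv_mem hw), h1⟩
  rw [h.disj, mem_bot] at h2
  exact mul_inv_eq_one.1 h2

/-- `e` is surjective on `V₀` -/
theorem surj (x : Fin k → Fin 2 → F) : ∃ v ∈ V₀, M.e v = x := by
  obtain ⟨v, hv, hx⟩ := M.surj x
  obtain ⟨w, hw, d, hd, rfl⟩ := h.exists_mul hv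
  refine ⟨w, hw, ?_⟩
  rw [← hx, M.mul _ (h.V0V hw) _ (h.DV hd), (M.ker d (h.DV hd)).2 hd, add_zero]

theorem exists_nn (i : Fin k) (x : Fin 2 → F) : ∃ v ∈ nn M V₀ i, M.e v = Pi.single i x := by
  obtain ⟨v, hv, hx⟩ := h.surj (Pi.single i x)
  exact ⟨v, ⟨hv, h.V0V hv, fun j hj => by rw [hx, Pi.single_eq_of_ne hj]⟩, hx⟩

theorem exists_rr (i : Fin k) (x : F) : ∃ v ∈ rr M V₀ i, M.e v = Pi.single i ![x, 0] := by
  obtain ⟨v, hv, hx⟩ := h.exists_nn i ![x, 0]
  exact ⟨v, ⟨hv, by rw [hx, Pi.single_eq_same]; rfl⟩, hx⟩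

omit h in
theorem nn_le_V (i : Fin k) : nn M V₀ i ≤ zl (S : Subgroup G) P := fun _ hv => hv.2.1

omit h in
theorem nn_le_V0 (i : Fin k) : nn M V₀ i ≤ V₀ := fun _ hv => hv.1

omit h in
theorem rr_le_nn (i : Fin k) : rr M V₀ i ≤ nn M V₀ i := fun _ hv => hv.1

omit h in
theorem e_nn {i : Fin k} {v : G} (hv : v ∈ nn M V₀ i) : M.e v = Pi.single i (M.e v i) := by
  funext j
  by_cases hj : j = i
  · subst hj
    rw [Pi.single_eq_same]
  · rw [Pi.single_eq_of_ne hj, hv.2.2 j hj]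

/-- `D ≤ C(P)` -/
theorem D_le_cent : D ≤ centralizer (P : Set G) := by
  have hPD := PD M h.DV
  -- `D' = C_D(S)` is centralised by `P`
  set D' := D ⊓ centralizer ((S : Subgroup G) : Set G) with hD'
  have h1 : P ≤ centralizer (D' : Set G) := by
    refine M.gen _ (fun s hs => ?_) fun g hg A hA => ?_
    · rw [mem_centralizer_iff]
      rintro d ⟨_, hd⟩
      exact (mem_centralizer_iff.1 hd s hs).symm
    · rw [mem_centralizer_iff]
      rintro d ⟨hd, _⟩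
      exact (hA.2 d hd).symm
  -- `V ≤ V₀ D'`
  have h2 : zl (S : Subgroup G) P ≤ V₀ ⊔ D' := by
    refine zl_le (fun z hz => ?_) ?_
    · obtain ⟨w, hw, d, hd, rfl⟩ := h.exists_mul (zc_le_zl _ _ hz)
      refine mul_mem (mem_sup_left hw) (mem_sup_right (mem_inf.2 ⟨hd, ?_⟩))
      rw [mem_centralizer_iff]
      intro s hs
      have h3 : s * (w * d) * s⁻¹ = w * d := by
        rw [(mem_zc.1 hz).2.1 s hs, mul_inv_cancel_right]
      have h4 : (s * w * s⁻¹) * (s * d * s⁻¹) = w * d := by rw [← h3]; group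
      have h5 : s * w * s⁻¹ ∈ V₀ := h.conV0 (h.SP hs) hw
      have h6 : s * d * s⁻¹ ∈ D := (mem_normalizer_iff.1 (hPD (h.SP hs)) _).1 hd
      have h7 : w⁻¹ * (s * w * s⁻¹) = d * (s * d * s⁻¹)⁻¹ := by
        rw [eq_mul_inv_iff_mul_eq, mul_assoc, h4]
        group
      have h8 : d * (s * d * s⁻¹)⁻¹ ∈ V₀ ⊓ D := mem_inf.2 ⟨by rw [← h7]; exact mul_mem (inv_mem hw) h5,
        mul_mem hd (inv_mem h6)⟩
      rw [h.disj, mem_bot, mul_inv_eq_one] at h8
      exact (mul_inv_eq_iff_eq_mul.1 h8.symm)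
    · intro g hg
      have hD1 : g ∈ normalizer (D' : Set G) := by
        rw [mem_normalizer_iff]
        intro x
        constructor
        · intro hx
          rw [← mem_centralizer_iff.1 (h1 hg) x hx, mul_inv_cancel_right]
          exact hx
        · intro hx
          have h3 := mem_centralizer_iff.1 (h1 hg) _ hx
          have h4 : g * x * g⁻¹ = x := by
            have h5 : (g * x * g⁻¹) * g = g * (g * x * g⁻¹) := h3
            have h6 : g * x = g * (g * x * g⁻¹) := by rw [← h5]; group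
            exact (mul_left_cancel h6).symm
          rwa [h4] at hx
      refine RTransv.mem_normalizer_of_conj ?_
      rw [smul_sup, conj_eq_of_mem (h.PV0 hg), conj_eq_of_mem hD1]
  intro d hd
  have h3 := h2 (h.DV hd)
  have h4 : V₀ ≤ normalizer (D' : Set G) := h.V0V.trans (h.VP.trans (h1.trans (centralizer_le_normalizer _)))
  have h5 : d ∈ ((V₀ : Set G) * (D' : Set G)) := by
    rw [← coe_mul_of_left_le_normalizer_right _ _ h4]
    exact h3
  obtain ⟨w, hw, d', hd', rfl⟩ := Set.mem_mul.1 h5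
  have h6 : w ∈ V₀ ⊓ D := mem_inf.2 ⟨hw, by
    have := mul_mem hd (inv_mem hd'.1)
    rwa [mul_inv_cancel_right] at this⟩
  rw [h.disj, mem_bot] at h6
  rw [h6, one_mul, mem_centralizer_iff]
  intro p hp
  exact (mem_centralizer_iff.1 (h1 hp) d' hd').symm

theorem D_le_zc : D ≤ zc (S : Subgroup G) := by
  intro d hd
  rw [mem_zc]
  refine ⟨h.VS (h.DV hd), fun s hs => mem_centralizer_iff.1 (h.D_le_cent hd) s (h.SP hs), ?_⟩
  rw [pow_two, h.sqV (h.DV hd)]

/-! ### The action of `U` -/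

variable (E : PairA (S : Subgroup G) P H)
include E

theorem US : zl (S : Subgroup G) H ≤ (S : Subgroup G) := IsLong.zl_le_S h.hc E.long

theorem UP : zl (S : Subgroup G) H ≤ P := (h.US E).trans h.SP

theorem VH : zl (S : Subgroup G) P ≤ H := h.VS.trans E.long.loc.le

theorem commU {x y : G} (hx : x ∈ zl (S : Subgroup G) H) (hy : y ∈ zl (S : Subgroup G) H) : x * y = y * x :=
  mem_centralizer_iff.mp ((zl_abel h.hc S E.long.loc).1 hy) x hx

theorem sqU {x : G} (hx : x ∈ zl (S : Subgroup G) H) : x * x = 1 := by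
  have h := (zl_abel h.hc S E.long.loc).2 x hx
  rwa [pow_two] at h

/-- the module -/
theorem nrm : Nrm H (zl (S : Subgroup G) H) := ⟨fun _ hu _ hv => h.commU E hu hv, le_normalizer_zl _ _⟩

/-- **The root coordinates of `U`.** -/
theorem exists_beta [CharP F 2] : ∃ β : G → Fin k → F,
    (∀ u ∈ zl (S : Subgroup G) H, ∀ v ∈ zl (S : Subgroup G) P, ∀ i,
      M.e (u * v * u⁻¹) i = ![M.e v i 0 + β u i * M.e v i 1, M.e v i 1]) ∧
    ∀ u ∈ zl (S : Subgroup G) H, ∀ w ∈ zl (S : Subgroup G) H, β (u * w) = β u + β w := by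
  classical
  have h0 : ∀ u ∈ zl (S : Subgroup G) H, ∃ b : Fin k → F, ∀ v ∈ zl (S : Subgroup G) P, ∀ i,
      M.e (u * v * u⁻¹) i = ![M.e v i 0 + b i * M.e v i 1, M.e v i 1] := by
    intro u hu
    obtain ⟨b, hb⟩ := exists_up (quad h.hc E) M hu
    exact ⟨b, fun v hv i => by rw [hb v hv i, ap_up']⟩
  choose! β hβ using h0
  refine ⟨β, hβ, fun u hu w hw => ?_⟩
  funext i
  obtain ⟨v, hv, he⟩ := h.exists_nn i ![0, 1]
  have hvV := nn_le_V i hv
  have e0 : M.e v i = ![0, 1] := by rw [he, Pi.single_eq_same]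
  have h1 := hβ (u * w) (mul_mem hu hw) v hvV i
  have h2 := hβ u hu _ (conV (h.UP E hw) hvV) i
  rw [hβ w hw v hvV i, e0] at h2
  rw [e0] at h1
  have e1 : u * w * v * (u * w)⁻¹ = u * (w * v * w⁻¹) * u⁻¹ := by group
  rw [e1, h2] at h1
  have h3 := congrFun h1 0
  simp at h3
  rw [Pi.add_apply, ← h3]
  ring


omit E

/-! ### Conjugation -/

omit [Finite G] h in
theorem smul_centralizer (g : G) (K : Subgroup G) :
    MulAut.conj g • centralizer (K : Set G) = centralizer ((MulAut.conj g • K : Subgroup G) : Set G) := by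
  ext x
  rw [mem_conj, mem_centralizer_iff, mem_centralizer_iff]
  constructor
  · intro h y hy
    have hy' : y ∈ MulAut.conj g • K := hy
    rw [mem_conj] at hy'
    have h1 := congrArg (fun t => g * t * g⁻¹) (h _ hy')
    simpa [mul_assoc] using h1
  · intro h y hy
    have h1 := h (g * y * g⁻¹) (by
      change g * y * g⁻¹ ∈ MulAut.conj g • K
      rw [mem_conj]
      have e : g⁻¹ * (g * y * g⁻¹) * g = y := by group
      rwa [e])
    have h2 := congrArg (fun t => g⁻¹ * t * g) h1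
    simpa [mul_assoc] using h2

/-- `P` permutes the factors -/
theorem conj_nn_le {g : G} (hg : g ∈ P) (i : Fin k) {v : G} (hv : v ∈ nn M V₀ i) :
    g * v * g⁻¹ ∈ nn M V₀ (RStr.sg M hg i) := by
  refine ⟨h.conV0 hg hv.1, conV hg hv.2.1, fun j hj => ?_⟩
  obtain ⟨l, rfl⟩ := (RStr.sg M hg).surjective j
  rw [RStr.sg_spec M hg hv.2.1]
  exact hv.2.2 l fun hl => hj (by rw [hl])

theorem conj_nn {g : G} (hg : g ∈ P) (i : Fin k) : MulAut.conj g • nn M V₀ i = nn M V₀ (RStr.sg M hg i) := by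
  ext v
  rw [mem_conj]
  constructor
  · intro hv
    have := h.conj_nn_le hg i hv
    have e : g * (g⁻¹ * v * g) * g⁻¹ = v := by group
    rwa [e] at this
  · intro hv
    have hv1 : g⁻¹ * v * g ∈ V₀ := by
      have := h.conV0 (inv_mem hg) hv.1
      rwa [inv_inv] at this
    have hv2 := h.V0V hv1
    refine ⟨hv1, hv2, fun j hj => ?_⟩
    rw [← RStr.sg_spec M hg hv2]
    have e : g * (g⁻¹ * v * g) * g⁻¹ = v := by group
    rw [e]
    exact hv.2.2 _ fun h1 => hj ((RStr.sg M hg).injective h1)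

theorem conj_rr {s : G} (hs : s ∈ (S : Subgroup G)) (i : Fin k) :
    MulAut.conj s • rr M V₀ i = rr M V₀ (RStr.sg M (h.SP hs) i) := by
  ext v
  rw [mem_conj, mem_rr, mem_rr, ← h.conj_nn (h.SP hs) i, mem_conj]
  refine and_congr_right fun hv => ?_
  have h1 := RStr.e_conj_line M h.SP hs hv.2.1 i
  have e : s * (s⁻¹ * v * s) * s⁻¹ = v := by group
  rw [e] at h1
  exact h1.symm

/-- `S` is transitive on the factors -/
theorem exists_S (i j : Fin k) : ∃ s, ∃ hs : s ∈ (S : Subgroup G), RStr.sg M (h.SP hs) i = j := by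
  obtain ⟨s, hs, h1⟩ := M.trans i j
  refine ⟨s, hs, ?_⟩
  obtain ⟨l, hl⟩ := (RStr.sg M (h.SP hs)).surjective j
  by_cases hli : l = i
  · rw [← hli, hl]
  · exfalso
    obtain ⟨v, hv, he⟩ := h.exists_nn i ![1, 0]
    have h2 := RStr.sg_spec M (h.SP hs) hv.2.1 l
    rw [hl, h1 v hv.2.1] at h2
    have h3 := h2.2 (hv.2.2 l hli)
    rw [he, Pi.single_eq_same] at h3
    have h4 := congrFun h3 0
    exact one_ne_zero h4

/-! ### The action on `N_i` -/

variable [CharP F 2]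
include E

theorem U_nn {u v : G} (hu : u ∈ zl (S : Subgroup G) H) {i : Fin k} (hv : v ∈ nn M V₀ i) :
    u * v * u⁻¹ ∈ nn M V₀ i := by
  obtain ⟨β, hβ, -⟩ := h.exists_beta E
  refine ⟨h.conV0 (h.UP E hu) hv.1, conV (h.UP E hu) hv.2.1, fun j hj => ?_⟩
  rw [hβ u hu v hv.2.1, hv.2.2 j hj]
  funext l
  fin_cases l <;> simp

theorem cm_aux {β : G → Fin k → F} (hβ : ∀ u ∈ zl (S : Subgroup G) H, ∀ v ∈ zl (S : Subgroup G) P, ∀ i,
      M.e (u * v * u⁻¹) i = ![M.e v i 0 + β u i * M.e v i 1, M.e v i 1])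
    {u v : G} (hu : u ∈ zl (S : Subgroup G) H) {i : Fin k} (hv : v ∈ nn M V₀ i) :
    v * u * v⁻¹ * u⁻¹ ∈ nn M V₀ i ∧ M.e (v * u * v⁻¹ * u⁻¹) = Pi.single i ![β u i * M.e v i 1, 0] := by
  have h1 := h.U_nn E hu hv
  have e1 : v * u * v⁻¹ * u⁻¹ = v * (u * v * u⁻¹) := by
    have e2 : v * u * v⁻¹ * u⁻¹ = v * (u * v⁻¹ * u⁻¹) := by group
    rw [e2, h.inv_V hv.2.1]
  have h2 : v * u * v⁻¹ * u⁻¹ ∈ nn M V₀ i := by rw [e1]; exact mul_mem hv h1
  refine ⟨h2, ?_⟩
  rw [e_nn h2, e1, M.mul _ hv.2.1 _ h1.2.1, Pi.add_apply, hβ u hu v hv.2.1]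
  congr 1
  funext l
  fin_cases l
  · change M.e v i 0 + (M.e v i 0 + β u i * M.e v i 1) = β u i * M.e v i 1
    rw [← add_assoc, CharTwo.add_self_eq_zero, zero_add]
  · change M.e v i 1 + M.e v i 1 = 0
    exact CharTwo.add_self_eq_zero _

theorem mem_cent_iff {β : G → Fin k → F} (hβ : ∀ u ∈ zl (S : Subgroup G) H, ∀ v ∈ zl (S : Subgroup G) P, ∀ i,
      M.e (u * v * u⁻¹) i = ![M.e v i 0 + β u i * M.e v i 1, M.e v i 1])
    {u : G} (hu : u ∈ zl (S : Subgroup G) H) {i : Fin k} :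
    u ∈ centralizer (nn M V₀ i : Set G) ↔ β u i = 0 := by
  constructor
  · intro hc
    obtain ⟨v, hv, he⟩ := h.exists_nn i ![0, 1]
    have h1 := (h.cm_aux E hβ hu hv).2
    have h2 : v * u * v⁻¹ * u⁻¹ = 1 := by
      rw [mem_centralizer_iff.1 hc v hv]; group
    rw [h2, RStr.e_one M, he] at h1
    have h3 := congrFun (congrFun h1 i) 0
    simp at h3
    exact h3.symm
  · intro h0
    rw [mem_centralizer_iff]
    intro v hv
    obtain ⟨h1, h2⟩ := h.cm_aux E hβ hu hv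
    have h3 : v * u * v⁻¹ * u⁻¹ = 1 := by
      refine h.inj h1.1 (one_mem _) ?_
      rw [h2, RStr.e_one M, h0, zero_mul]
      funext j l
      by_cases hj : j = i
      · subst hj
        rw [Pi.single_eq_same]
        fin_cases l <;> rfl
      · rw [Pi.single_eq_of_ne hj]
        rfl
    exact commutatorElement_eq_one_iff_mul_comm.1 h3

/-- `[v, u] ∈ R_i` for `v ∈ N_i`, `u ∈ U` -/
theorem cm_mem {u v : G} (hu : u ∈ zl (S : Subgroup G) H) {i : Fin k} (hv : v ∈ nn M V₀ i) :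
    v * u * v⁻¹ * u⁻¹ ∈ rr M V₀ i := by
  obtain ⟨β, hβ, -⟩ := h.exists_beta E
  obtain ⟨h1, h2⟩ := h.cm_aux E hβ hu hv
  refine ⟨h1, ?_⟩
  rw [h2, Pi.single_eq_same]
  rfl

/-- `[N_i, u] = R_i` for `u ∈ U - C(N_i)` -/
theorem exists_cm {u r : G} (hu : u ∈ zl (S : Subgroup G) H) {i : Fin k}
    (huc : u ∉ centralizer (nn M V₀ i : Set G)) (hr : r ∈ rr M V₀ i) :
    ∃ v ∈ nn M V₀ i, v * u * v⁻¹ * u⁻¹ = r := by
  obtain ⟨β, hβ, -⟩ := h.exists_beta E
  rw [h.mem_cent_iff E hβ hu] at huc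
  obtain ⟨v, hv, he⟩ := h.exists_nn i ![0, (β u i)⁻¹ * M.e r i 0]
  obtain ⟨h1, h2⟩ := h.cm_aux E hβ hu hv
  refine ⟨v, hv, h.inj h1.1 hr.1.1 ?_⟩
  rw [h2, he, Pi.single_eq_same]
  refine Eq.trans ?_ (e_nn hr.1).symm
  congr 1
  funext l
  fin_cases l
  · change β u i * ((β u i)⁻¹ * M.e r i 0) = M.e r i 0
    rw [mul_inv_cancel_left₀ huc]
  · exact hr.2.symm

/-- every factor is moved by `U` -/
theorem exists_u (i : Fin k) : ∃ u ∈ zl (S : Subgroup G) H, u ∉ centralizer (nn M V₀ i : Set G) := by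
  by_contra hcon
  push Not at hcon
  -- all factors
  have h1 : ∀ j, ∀ u ∈ zl (S : Subgroup G) H, u ∈ centralizer (nn M V₀ j : Set G) := by
    intro j u hu
    obtain ⟨s, hs, rfl⟩ := h.exists_S i j
    rw [← h.conj_nn (h.SP hs) i, ← smul_centralizer, mem_conj]
    refine hcon _ ?_
    have := (mem_normalizer_iff.1 (le_normalizer_zl (S : Subgroup G) H (E.long.loc.le (inv_mem hs))) u).1 hu
    rwa [inv_inv] at this
  obtain ⟨β, hβ, -⟩ := h.exists_beta E
  apply E.ne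
  rw [le_centralizer_iff]
  intro u hu
  rw [mem_centralizer_iff]
  intro v hv
  obtain ⟨w, hw, d, hd, rfl⟩ := h.exists_mul hv
  have h2 : u * w * u⁻¹ = w := by
    refine h.inj (h.conV0 (h.UP E hu) hw) hw ?_
    funext i
    rw [hβ u hu w (h.V0V hw), (h.mem_cent_iff E hβ hu).1 (h1 i u hu)]
    funext l
    fin_cases l <;> simp
  have h3 : d * u = u * d := (mem_centralizer_iff.1 (h.D_le_cent hd) u (h.UP E hu)).symm
  have h4 : w * u = u * w := by
    rw [mul_inv_eq_iff_eq_mul] at h2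
    exact h2.symm
  rw [mul_assoc, h3, ← mul_assoc, h4, mul_assoc]

/-- `R_i ≤ U` -/
theorem rr_le_U (i : Fin k) : rr M V₀ i ≤ zl (S : Subgroup G) H := by
  intro r hr
  obtain ⟨u, hu, huc⟩ := h.exists_u E i
  obtain ⟨v, hv, rfl⟩ := h.exists_cm E hu huc hr
  exact mul_mem ((mem_normalizer_iff.1 (le_normalizer_zl (S : Subgroup G) H (h.VH E hv.2.1)) u).1 hu) (inv_mem hu)

omit [CharP F 2] E in
theorem rr_le_cent (i j : Fin k) : rr M V₀ i ≤ centralizer (nn M V₀ j : Set G) := by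
  intro r hr
  rw [mem_centralizer_iff]
  intro v hv
  exact h.commV hv.2.1 hr.1.2.1

/-! ### The instance -/

/-- **Root groups.** -/
theorem rt : Root.Rt (H := H) (M := (h.nrm E).Mod) (fun i => (nn M V₀ i).subgroupOf H)
    (fun i => (h.nrm E).ad (centralizer (nn M V₀ i : Set G))) (fun i => (h.nrm E).ad (rr M V₀ i)) where
  char2 m := Nrm.ext (h.sqU E (Nrm.val_mem _ m))
  fix i t ht u hu := by
    refine Nrm.ext ?_
    have h1 := mem_centralizer_iff.1 (Nrm.mem_ad.1 hu) t (mem_subgroupOf.1 ht)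
    rw [Nrm.val_smul, h1, mul_inv_cancel_right]
  quad i t ht u := by
    rw [Nrm.mem_ad, Nrm.val_sub, Nrm.val_smul]
    exact h.cm_mem E (Nrm.val_mem _ u) (mem_subgroupOf.1 ht)
  full i u hu r hr := by
    obtain ⟨v, hv, he⟩ := h.exists_cm E (Nrm.val_mem _ u) hu (Nrm.mem_ad.1 hr)
    refine ⟨⟨v, h.VH E hv.2.1⟩, mem_subgroupOf.2 hv, Nrm.ext ?_⟩
    rw [Nrm.val_smul, Nrm.val_add, h.commU E (Nrm.val_mem _ u) (Nrm.val_mem _ r), ← he]
    group
  le i j := Nrm.ad_mono (h.rr_le_cent i j)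
  trans i j := by
    obtain ⟨s, hs, rfl⟩ := h.exists_S i j
    refine ⟨⟨s, E.long.loc.le hs⟩, ?_⟩
    rw [Nrm.smul_ad, smul_centralizer, h.conj_nn (h.SP hs)]

/-! ### Orders -/

omit [CharP F 2] E in
theorem card_rr (i : Fin k) : Nat.card (rr M V₀ i) = Nat.card F := by
  refine Nat.card_congr (Equiv.ofBijective (fun r : rr M V₀ i => M.e r i 0) ⟨?_, ?_⟩)
  · rintro ⟨a, ha⟩ ⟨b, hb⟩ hab
    refine Subtype.ext (h.inj ha.1.1 hb.1.1 ?_)
    rw [e_nn ha.1, e_nn hb.1]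
    congr 1
    funext l
    fin_cases l
    · exact hab
    · exact ha.2.trans hb.2.symm
  · intro x
    obtain ⟨v, hv, he⟩ := h.exists_rr i x
    refine ⟨⟨v, hv⟩, ?_⟩
    change M.e v i 0 = x
    rw [he, Pi.single_eq_same]
    rfl

theorem card_R (i : Fin k) : Nat.card ((h.nrm E).ad (rr M V₀ i)) = Nat.card F := by
  rw [Nrm.card_ad (h.rr_le_U E i), h.card_rr]

omit [CharP F 2] E in
theorem finite_F : Finite F := by
  have h1 := h.card_rr ⟨0, h.kpos⟩
  have h2 : 0 < Nat.card (rr M V₀ (⟨0, h.kpos⟩ : Fin k)) := Nat.card_pos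
  rw [h1] at h2
  exact (Nat.card_pos_iff.1 h2).2

theorem big' (i : Fin k) : 2 < Nat.card ((h.nrm E).ad (rr M V₀ i)) := by
  rw [h.card_R E]
  exact h.big

theorem card_quot_le (i j : Fin k) :
    Nat.card ((h.nrm E).Mod ⧸ (h.nrm E).ad (centralizer (nn M V₀ j : Set G))) ≤
      Nat.card ((h.nrm E).ad (rr M V₀ i)) := by
  rw [h.card_R E]
  obtain ⟨β, hβ, hadd⟩ := h.exists_beta E
  have hF := h.finite_F
  let φ : (h.nrm E).Mod →+ F := AddMonoidHom.mk' (fun m => β ((h.nrm E).val m) j) fun a b => by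
    rw [Nrm.val_add, hadd _ (Nrm.val_mem _ a) _ (Nrm.val_mem _ b), Pi.add_apply]
  have hker : φ.ker = (h.nrm E).ad (centralizer (nn M V₀ j : Set G)) := by
    ext m
    rw [AddMonoidHom.mem_ker, Nrm.mem_ad, h.mem_cent_iff E hβ (Nrm.val_mem _ m)]
    rfl
  rw [← hker]
  exact Nat.card_le_card_of_injective _ (QuotientAddGroup.kerLift_injective φ)

end Hyp

end Cfsg.Agent.Omega.NOThreeL.RSplit
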