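import Cfsg.Agent.Mrg.Omega.NOThreeL.RTwo
import Cfsg.Agent.Mrg.Omega.NOThreeL.RBig.Sym

section


/-!
# NO-3L, box R, `q > 2`, split (helper797 #19602 (7)): the abstract frame of #19087 for one component

For a component `Comp T Ax R A N U` (`RSplit/Hull.lean`) : 162's `Frame X Pt VV` (`RBig/Pts.lean`) on `M := ↥U`,
`Γ := Gm U = (AddMonoid.End ↥U)ˣ`, `X := Xx` = the image of the stabiliser `St` of `A` and `U`, `Pt := Ptt` = the centres
`c • R i` (`c • Ax i ∈ A`), `VV p := Vv p` = the group generated by the images of the `c T_i c⁻¹` with centre `p`.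
Extra inputs: `N = ⨆ g ∈ A, TT g` and `free`.
-/

set_option autoImplicit false

namespace Cfsg.Agent.Omega.NOThreeL.RSplit.FrameOf

open scoped Pointwise
open Cfsg.Agent.Omega.NOThreeL.ThmAx (Full IsAx TT YY Adj mem_smul smul_eq_of YY_smul YY_smul_eq adj_smul IsAx.smul)
open Cfsg.Agent.Omega.NOThreeL.RSplit.Root (Rt)
open Cfsg.Agent.Omega.NOThreeL.RSplit.Hull (Comp hull mem_of_fix)
open Cfsg.Agent.Omega.NOThreeL.RBig.Pts (Frame Mv OneAx Out)

variable {H M : Type*} [Group H] [AddCommGroup M] [DistribMulAction H M]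

variable (H) in
/-- The stabiliser of the component. -/
def St (A : Set (AddSubgroup M)) (U : AddSubgroup M) : Subgroup H where
  carrier := {h | ((∀ g ∈ A, h • g ∈ A) ∧ ∀ g ∈ A, h⁻¹ • g ∈ A) ∧ (∀ u ∈ U, h • u ∈ U) ∧ ∀ u ∈ U, h⁻¹ • u ∈ U}
  one_mem' := by
    refine ⟨⟨fun g hg => ?_, fun g hg => ?_⟩, fun u hu => ?_, fun u hu => ?_⟩
    · rwa [one_smul]
    · rwa [inv_one, one_smul]
    · rwa [one_smul]
    · rwa [inv_one, one_smul]
  mul_mem' := by
    rintro a b ⟨⟨h1, h2⟩, h3, h4⟩ ⟨⟨k1, k2⟩, k3, k4⟩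
    refine ⟨⟨fun g hg => ?_, fun g hg => ?_⟩, fun u hu => ?_, fun u hu => ?_⟩
    · rw [mul_smul]; exact h1 _ (k1 _ hg)
    · rw [mul_inv_rev, mul_smul]; exact k2 _ (h2 _ hg)
    · rw [mul_smul]; exact h3 _ (k3 _ hu)
    · rw [mul_inv_rev, mul_smul]; exact k4 _ (h4 _ hu)
  inv_mem' := by
    rintro a ⟨⟨h1, h2⟩, h3, h4⟩
    exact ⟨⟨h2, by rwa [inv_inv]⟩, h4, by rwa [inv_inv]⟩

/-- The automorphisms of `U`. -/
def Gm (U : AddSubgroup M) : Type _ := (AddMonoid.End ↥U)ˣ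

instance (U : AddSubgroup M) : Group (Gm U) := inferInstanceAs (Group (AddMonoid.End ↥U)ˣ)

instance (U : AddSubgroup M) : DistribMulAction (Gm U) ↥U :=
  inferInstanceAs (DistribMulAction (AddMonoid.End ↥U)ˣ ↥U)

/-- The action of the stabiliser on `U`. -/
def act (A : Set (AddSubgroup M)) (U : AddSubgroup M) : ↥(St H A U) →* Gm U :=
  (MonoidHom.toHomUnits : (↥(St H A U) →* AddMonoid.End ↥U) → (↥(St H A U) →* (AddMonoid.End ↥U)ˣ))
    { toFun := fun h =>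
        ({ toFun := fun u => ⟨(h : H) • (u : M), h.2.2.1 u u.2⟩
           map_zero' := Subtype.ext (smul_zero _)
           map_add' := fun u v => Subtype.ext (smul_add _ _ _) } : ↥U →+ ↥U)
      map_one' := by
        ext u
        exact one_smul _ _
      map_mul' := fun a b => by
        ext u
        exact mul_smul _ _ _ }

theorem act_smul {A : Set (AddSubgroup M)} {U : AddSubgroup M} (h : ↥(St H A U)) (u : ↥U) :
    ((act A U h • u : ↥U) : M) = (h : H) • (u : M) := rfl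

theorem act_inv_smul {A : Set (AddSubgroup M)} {U : AddSubgroup M} (h : ↥(St H A U)) (u : ↥U) :
    (((act A U h)⁻¹ • u : ↥U) : M) = (h : H)⁻¹ • (u : M) := by
  rw [← map_inv, act_smul]
  rfl

theorem gm_ext {U : AddSubgroup M} {a b : Gm U} (h : ∀ m : ↥U, a • m = b • m) : a = b :=
  Units.ext (AddMonoidHom.ext h)

theorem act_smul_sub {A : Set (AddSubgroup M)} {U : AddSubgroup M} (h : ↥(St H A U)) (P : AddSubgroup M) :
    act A U h • P.addSubgroupOf U = ((h : H) • P).addSubgroupOf U := by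
  ext u
  rw [AddSubgroup.mem_pointwise_smul_iff_inv_smul_mem, AddSubgroup.mem_addSubgroupOf, act_inv_smul,
    AddSubgroup.mem_addSubgroupOf, mem_smul]

section defs

variable {ι : Type*} (T : ι → Subgroup H) (Ax R : ι → AddSubgroup M) (A : Set (AddSubgroup M)) (U : AddSubgroup M)

variable (H) in
/-- The points. -/
def Ptt : Set (AddSubgroup ↥U) := {p | ∃ (c : H) (i : ι), c • Ax i ∈ A ∧ p = (c • R i).addSubgroupOf U}

/-- The generators of `Vv p`. -/
def Gn (p : AddSubgroup ↥U) : Set (Gm U) :=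
  {a | ∃ (h : ↥(St H A U)) (c : H) (i : ι), c • Ax i ∈ A ∧ (c • R i).addSubgroupOf U = p ∧
    ∃ t ∈ T i, (h : H) = c * t * c⁻¹ ∧ a = act A U h}

/-- The group of a point. -/
def Vv (p : AddSubgroup ↥U) : Subgroup (Gm U) := Subgroup.closure (Gn T Ax R A U p)

variable (H) in
/-- The image of the stabiliser. -/
def Xx : Subgroup (Gm U) := (act (H := H) A U).range

end defs

variable {ι : Type*} {T : ι → Subgroup H} {Ax R : ι → AddSubgroup M} {A : Set (AddSubgroup M)}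
  {N : Subgroup H} {U : AddSubgroup M}

theorem le_of_root {c : H} {i : ι} (C : Comp T Ax R A N U) (hc : c • Ax i ∈ A) {x : M}
    (hx : x ∈ c • R i) : ∃ hU : x ∈ U, (⟨x, hU⟩ : ↥U) ∈ (c • R i).addSubgroupOf U :=
  ⟨C.root c i hc hx, hx⟩

theorem st_of_mem (C : Comp T Ax R A N U) {n : H} (hn : n ∈ N) : n ∈ St H A U :=
  ⟨⟨fun g hg => C.inv n hn g hg, fun g hg => C.inv n⁻¹ (inv_mem hn) g hg⟩, fun u hu => C.uinv n hn u hu,
    fun u hu => C.uinv n⁻¹ (inv_mem hn) u hu⟩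

theorem gen_mem (hN : ⨆ g ∈ A, TT T Ax g ≤ N) {c : H} {i : ι} (hc : c • Ax i ∈ A) {t : H} (ht : t ∈ T i) :
    c * t * c⁻¹ ∈ N :=
  hN ((le_iSup₂ (f := fun g (_ : g ∈ A) => TT T Ax g) (c • Ax i) hc)
    (Subgroup.subset_closure ⟨c, i, rfl, t, ht, rfl⟩))

/-- elements of `Vv p` -/
theorem vv_spec (C : Comp T Ax R A N U) {p : AddSubgroup ↥U} {v : Gm U} (hv : v ∈ Vv T Ax R A U p) :
    (∀ x ∈ p, v • x = x) ∧ ∀ m : ↥U, v • m - m ∈ p := by
  refine Subgroup.closure_induction (p := fun v _ => (∀ x ∈ p, v • x = x) ∧ ∀ m : ↥U, v • m - m ∈ p)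
    ?_ ?_ ?_ ?_ hv
  · rintro a ⟨h, c, i, hc, rfl, t, ht, hh, rfl⟩
    constructor
    · intro x hx
      apply Subtype.ext
      rw [act_smul, hh]
      have h1 : (x : M) ∈ c • R i := hx
      have h2 : c⁻¹ • (x : M) ∈ Ax i := C.le i i (mem_smul.1 h1)
      rw [mul_smul, mul_smul, C.fix i t ht _ h2, smul_inv_smul]
    · intro m
      change ((act A U h • m - m : ↥U) : M) ∈ c • R i
      rw [AddSubgroup.coe_sub, act_smul, hh]
      have h2 : (c * t * c⁻¹) • (m : M) - m = c • (t • (c⁻¹ • (m : M)) - c⁻¹ • (m : M)) := by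
        rw [mul_smul, mul_smul, smul_sub, smul_inv_smul]
      rw [h2]
      exact AddSubgroup.smul_mem_pointwise_smul _ _ _ (C.quad i t ht _)
  · exact ⟨fun x _ => one_smul _ _, fun m => by rw [one_smul, sub_self]; exact zero_mem _⟩
  · rintro a b _ _ ⟨ha, ha'⟩ ⟨hb, hb'⟩
    refine ⟨fun x hx => by rw [mul_smul, hb x hx, ha x hx], fun m => ?_⟩
    have h1 : (a * b) • m - m = (a • b • m - b • m) + (b • m - m) := by rw [mul_smul]; abel
    rw [h1]
    exact add_mem (ha' _) (hb' _)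
  · rintro a _ ⟨ha, ha'⟩
    refine ⟨fun x hx => by rw [inv_smul_eq_iff, ha x hx], fun m => ?_⟩
    have h1 : a⁻¹ • m - m = -(a • (a⁻¹ • m) - a⁻¹ • m) := by rw [smul_inv_smul]; abel
    rw [h1]
    exact neg_mem (ha' _)

theorem vv_le (C : Comp T Ax R A N U) (p : AddSubgroup ↥U) : Vv T Ax R A U p ≤ Xx H A U := by
  refine (Subgroup.closure_le _).2 ?_
  rintro a ⟨h, c, i, hc, -, t, ht, hh, rfl⟩
  exact ⟨h, rfl⟩

theorem vv_conj {g : Gm U} (hg : g ∈ Xx H A U) {p : AddSubgroup ↥U} {v : Gm U}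
    (hv : v ∈ Vv T Ax R A U p) : g * v * g⁻¹ ∈ Vv T Ax R A U (g • p) := by
  obtain ⟨k, rfl⟩ := hg
  have h1 : Vv T Ax R A U p ≤ (Vv T Ax R A U (act A U k • p)).comap (MulAut.conj (act A U k)).toMonoidHom := by
    refine (Subgroup.closure_le _).2 ?_
    rintro a ⟨h, c, i, hc, rfl, t, ht, hh, rfl⟩
    refine Subgroup.subset_closure ⟨k * h * k⁻¹, k * c, i, ?_, ?_, t, ht, ?_, ?_⟩
    · rw [mul_smul]
      exact k.2.1.1 _ hc
    · rw [act_smul_sub, mul_smul]
    · rw [Subgroup.coe_mul, Subgroup.coe_mul, hh, Subgroup.coe_inv]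
      group
    · rw [map_mul, map_mul, map_inv]
      rfl
  exact h1 hv

/-- **162's frame for one component.** -/
theorem frame [Finite M] (C : Comp T Ax R A N U) (hA : A.Nonempty) (hN : N = ⨆ g ∈ A, TT T Ax g)
    (free : ∀ i, ∀ t ∈ T i, ∀ u : M, u ∉ Ax i → t • u = u → ∀ m : M, t • m = m) :
    Frame (Xx H A U) (Ptt H Ax R A U) (Vv T Ax R A U) where
  two := fun m => Subtype.ext (C.char2 m)
  nonempty := by
    obtain ⟨g, hg⟩ := hA
    obtain ⟨c, i, rfl⟩ := C.isax g hg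
    exact ⟨_, c, i, hg, rfl⟩
  ne := by
    rintro p ⟨c, i, hc, rfl⟩ hbot
    obtain ⟨r, hr, hr0⟩ := (AddSubgroup.bot_or_exists_ne_zero (R i)).resolve_left (C.rne i)
    have h1 : c • r ∈ c • R i := AddSubgroup.smul_mem_pointwise_smul _ _ _ hr
    obtain ⟨hU, h2⟩ := le_of_root C hc h1
    rw [hbot, AddSubgroup.mem_bot] at h2
    exact hr0 ((smul_eq_zero_iff_eq c).1 (congrArg Subtype.val h2))
  span := by
    rw [eq_top_iff]
    rintro x -
    obtain ⟨g, hg⟩ := hA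
    obtain ⟨c, i, rfl⟩ := C.isax g hg
    obtain ⟨n, hn, hnc, hx⟩ := C.exists_root hg x.2
    exact (le_sSup (show ((n * c) • R i).addSubgroupOf U ∈ Ptt H Ax R A U from ⟨n * c, i, hnc, rfl⟩)) hx
  inv := by
    rintro g ⟨k, rfl⟩ p ⟨c, i, hc, rfl⟩
    refine ⟨k * c, i, ?_, ?_⟩
    · rw [mul_smul]
      exact k.2.1.1 _ hc
    · rw [act_smul_sub, mul_smul]
  conj := fun g hg p _ v hv => vv_conj hg hv
  le := fun p _ => vv_le C p
  trans := by
    rintro p ⟨c, i, hc, rfl⟩ r ⟨d, j, hd, rfl⟩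
    obtain ⟨x, hx, hx0⟩ := (AddSubgroup.bot_or_exists_ne_zero (R i)).resolve_left (C.rne i)
    obtain ⟨y, hy, hy0⟩ := (AddSubgroup.bot_or_exists_ne_zero (R j)).resolve_left (C.rne j)
    have hx1 : c • x ∈ c • R i := AddSubgroup.smul_mem_pointwise_smul _ _ _ hx
    have hy1 : d • y ∈ d • R j := AddSubgroup.smul_mem_pointwise_smul _ _ _ hy
    have hx2 : c • x ≠ 0 := fun h => hx0 ((smul_eq_zero_iff_eq c).1 h)
    have hy2 : d • y ≠ 0 := fun h => hy0 ((smul_eq_zero_iff_eq d).1 h)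
    obtain ⟨n, hn, hnx⟩ := C.tr _ (C.root c i hc hx1) hx2 _ (C.root d j hd hy1) hy2
    have hnc : (n * c) • Ax i ∈ A := by
      rw [mul_smul]
      exact C.inv n hn _ hc
    have h1 : (n * c) • R i = d • R j := by
      refine C.root_eq hnc hd (x := d • y) ?_ hy1 hy2
      rw [mul_smul, ← hnx]
      exact AddSubgroup.smul_mem_pointwise_smul _ _ _ hx1
    have hnS := st_of_mem C hn
    refine ⟨act A U ⟨n, hnS⟩, ?_, ?_⟩
    · -- `n` is a product of generators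
      have key : N ≤ ((⨆ s ∈ Ptt H Ax R A U, Vv T Ax R A U s).comap (act A U)).map (St H A U).subtype := by
        rw [hN]
        refine iSup₂_le fun g hg => (Subgroup.closure_le _).2 ?_
        rintro a ⟨c', i', rfl, t, ht, rfl⟩
        have h3 : c' * t * c'⁻¹ ∈ St H A U := st_of_mem C (gen_mem hN.ge hg ht)
        refine ⟨⟨c' * t * c'⁻¹, h3⟩, ?_, rfl⟩
        refine (le_iSup₂ (f := fun s (_ : s ∈ Ptt H Ax R A U) => Vv T Ax R A U s)
          ((c' • R i').addSubgroupOf U) ⟨c', i', hg, rfl⟩) ?_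
        exact Subgroup.subset_closure ⟨⟨c' * t * c'⁻¹, h3⟩, c', i', hg, rfl, t, ht, rfl, rfl⟩
      obtain ⟨n', hn', hn''⟩ := key hn
      have h4 : n' = ⟨n, hnS⟩ := Subtype.ext hn''
      rw [← h4]
      exact hn'
    · rw [act_smul_sub]
      change (d • R j).addSubgroupOf U = (n • c • R i).addSubgroupOf U
      rw [← mul_smul, h1]
  faith := by
    intro p _ v _ h
    exact gm_ext fun m => by rw [h m, one_smul]
  fixed := by
    intro m h
    by_contra hm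
    have hm' : (m : M) ≠ 0 := fun h0 => hm (Subtype.ext h0)
    obtain ⟨g, hg, hmg⟩ := C.sep m m.2 hm'
    refine hmg (mem_of_fix C.toRt C.rne (C.isax g hg) fun t ht => ?_)
    -- `TT g` acts through the `Vv p`
    refine Subgroup.closure_induction (p := fun t _ => t • (m : M) = m) ?_ (one_smul _ _)
      (fun a b _ _ ha hb => by rw [mul_smul, hb, ha]) (fun a _ ha => by rw [inv_smul_eq_iff, ha]) ht
    rintro a ⟨c', i', rfl, t, ht, rfl⟩
    have h3 : c' * t * c'⁻¹ ∈ St H A U := st_of_mem C (gen_mem hN.ge hg ht)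
    have h4 := h ((c' • R i').addSubgroupOf U) ⟨c', i', hg, rfl⟩ (act A U ⟨c' * t * c'⁻¹, h3⟩)
      (Subgroup.subset_closure ⟨⟨c' * t * c'⁻¹, h3⟩, c', i', hg, rfl, t, ht, rfl, rfl⟩)
    exact congrArg Subtype.val h4
  map := by
    intro p _ v hv m
    have h1 := (vv_spec C hv).2 m
    have h2 : v • m + m = v • m - m := by
      rw [sub_eq_add_neg, neg_eq_of_add_eq_zero_left (show m + m = 0 from Subtype.ext (C.char2 m))]
    rw [h2]
    exact h1
  triv := fun p _ v hv => (vv_spec C hv).1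
  bij := by
    rintro p hp r ⟨d, j, hd, rfl⟩ - v hv
    by_cases hfix : ∀ x ∈ (d • R j).addSubgroupOf U, v • x = x → x = 0
    · exact Or.inr hfix
    push Not at hfix
    obtain ⟨x, hx, hvx, hx0⟩ := hfix
    refine Or.inl fun y hy => ?_
    obtain ⟨c, i, hc, rfl⟩ := hp
    by_cases hpr : c • R i = d • R j
    · refine (vv_spec C hv).1 y ?_
      rw [hpr]
      exact hy
    -- `v` normalises `r`
    obtain ⟨k, hk⟩ := vv_le C _ hv
    have hkd : ((k : H) * d) • Ax j ∈ A := by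
      rw [mul_smul]
      exact k.2.1.1 _ hd
    have hx0' : (x : M) ≠ 0 := fun h => hx0 (Subtype.ext h)
    have h1 : ((k : H) * d) • R j = d • R j := by
      refine C.root_eq hkd hd (x := x) ?_ hx hx0'
      rw [mul_smul, mem_smul]
      have h2 : (k : H)⁻¹ • (x : M) = x := by
        rw [inv_smul_eq_iff]
        have := congrArg Subtype.val hvx
        rw [← hk] at this
        exact this.symm
      rw [h2]
      exact hx
    have h2 : v • y ∈ (d • R j).addSubgroupOf U := by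
      rw [← hk]
      change (k : H) • (y : M) ∈ d • R j
      rw [← h1, mul_smul]
      exact AddSubgroup.smul_mem_pointwise_smul _ _ _ hy
    have h3 : v • y - y ∈ (d • R j).addSubgroupOf U := sub_mem h2 hy
    have h4 := (vv_spec C hv).2 y
    by_contra hne
    have h5 : v • y - y ≠ 0 := fun h => hne (sub_eq_zero.1 h)
    exact hpr (C.root_eq hc hd (x := ((v • y - y : ↥U) : M)) h4 h3 fun h => h5 (Subtype.ext h))
  line := by
    rintro p hp r hr ⟨v, hv, x, hx, hne⟩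
    -- some generator moves `x`
    have h1 : ∃ a ∈ Gn T Ax R A U p, a • x ≠ x := by
      by_contra hcon
      push Not at hcon
      refine hne (Subgroup.closure_induction (p := fun a _ => a • x = x) hcon (one_smul _ _)
        (fun a b _ _ ha hb => by rw [mul_smul, hb, ha]) (fun a _ ha => by rw [inv_smul_eq_iff, ha]) hv)
    obtain ⟨a, ⟨h, c, i, hc, rfl, t, ht, hh, rfl⟩, hax⟩ := h1
    let Q : Subgroup (Gm U) := (((T i).map (MulAut.conj c).toMonoidHom).subgroupOf (St H A U)).map (act A U)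
    have hQ : ∀ b ∈ Q, ∃ (k : ↥(St H A U)) (t : H), t ∈ T i ∧ (k : H) = c * t * c⁻¹ ∧ b = act A U k := by
      rintro b ⟨k, hk, rfl⟩
      obtain ⟨t, ht, hk'⟩ := hk
      exact ⟨k, t, ht, hk'.symm, rfl⟩
    have hQ' : ∀ t ∈ T i, ∃ k : ↥(St H A U), (k : H) = c * t * c⁻¹ ∧ act A U k ∈ Q := by
      intro t ht
      refine ⟨⟨c * t * c⁻¹, st_of_mem C (gen_mem hN.ge hc ht)⟩, rfl, ⟨_, ⟨t, ht, rfl⟩, rfl⟩⟩
    refine ⟨Q, ?_, ⟨act A U h, ?_, x, hx, hax⟩, fun u => ?_⟩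
    · intro b hb
      obtain ⟨k, t', ht', hk, rfl⟩ := hQ b hb
      exact Subgroup.subset_closure ⟨k, c, i, hc, rfl, t', ht', hk, rfl⟩
    · obtain ⟨k, hk, hkQ⟩ := hQ' t ht
      have : k = h := Subtype.ext (hk.trans hh.symm)
      rwa [this] at hkQ
    · by_cases hu : c⁻¹ • (u : M) ∈ Ax i
      · left
        intro b hb
        obtain ⟨k, t', ht', hk, rfl⟩ := hQ b hb
        apply Subtype.ext
        rw [act_smul, hk, mul_smul, mul_smul, C.fix i t' ht' _ hu, smul_inv_smul]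
      · right
        constructor
        · intro y hy
          have hy' : c⁻¹ • (y : M) ∈ R i := mem_smul.1 hy
          obtain ⟨t', ht', htu⟩ := C.full i _ hu _ hy'
          obtain ⟨k, hk, hkQ⟩ := hQ' t' ht'
          refine ⟨act A U k, hkQ, Subtype.ext ?_⟩
          rw [act_smul, hk, mul_smul, mul_smul, htu, smul_add, smul_inv_smul, smul_inv_smul]
          rfl
        · intro b hb hbu
          obtain ⟨k, t', ht', hk, rfl⟩ := hQ b hb
          have h2 : (k : H) • (u : M) = u := congrArg Subtype.val hbu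
          rw [hk, mul_smul, mul_smul, smul_eq_iff_eq_inv_smul] at h2
          have h3 := free i t' ht' _ hu h2
          refine gm_ext fun m => Subtype.ext ?_
          rw [one_smul, act_smul, hk, mul_smul, mul_smul, h3, smul_inv_smul]

/-- **The dichotomy for one component.** -/
theorem dichotomy [Finite M] (C : Comp T Ax R A N U) (hA : A.Nonempty) (hN : N = ⨆ g ∈ A, TT T Ax g)
    (free : ∀ i, ∀ t ∈ T i, ∀ u : M, u ∉ Ax i → t • u = u → ∀ m : M, t • m = m) :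
    (∀ e ∈ Ptt H Ax R A U, ∀ p ∈ Ptt H Ax R A U, ¬ Mv (Vv T Ax R A U) e p → e = p) ∨
      (OneAx (Ptt H Ax R A U) (Vv T Ax R A U) ∧
        ∀ e ∈ Ptt H Ax R A U, Out (Ptt H Ax R A U) (Vv T Ax R A U) e) :=
  (frame C hA hN free).dichotomy

end Cfsg.Agent.Omega.NOThreeL.RSplit.FrameOf

end

section


/-!
# NO-3L, box R, `q > 2`, split (helper797 #19602 (7)(b), with helper602's REPAIR 2): (Q) for `k ≥ 1`, abstract

* `Frame.fixe_of` : one axis; if `B` is quadratic, normalised by `VV e`, fixes `e` and one `0 ≠ x ∈ e`, then `B` fixes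
  `e` pointwise;
* `comp_quad` : one component; every `b ∈ B` acts on `U` as an element of `T i`;
* `QK.fixU` : `B` fixes all the `U i`; **`QK.main`** : every `b ∈ B` acts on `M` as an element of `⨆ i, T i`.
-/

set_option autoImplicit false

namespace Cfsg.Agent.Omega.NOThreeL.RSplit.QuadAll

open scoped Pointwise
open Cfsg.Agent.Omega.NOThreeL.ThmAx (Full IsAx TT YY Adj mem_smul smul_eq_of YY_smul YY_smul_eq adj_smul IsAx.smul)
open Cfsg.Agent.Omega.NOThreeL.RSplit.Root (Rt)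
open Cfsg.Agent.Omega.NOThreeL.RSplit.Hull (Comp hull mem_of_fix)
open Cfsg.Agent.Omega.NOThreeL.RSplit.FrameOf
open Cfsg.Agent.Omega.NOThreeL.RBig.Pts (Frame Mv OneAx Out dd dd_apply Quad not_mv)

section frame

variable {Γ M : Type*} [Group Γ] [AddCommGroup M] [DistribMulAction Γ M]
variable {X : Subgroup Γ} {Pt : Set (AddSubgroup M)} {VV : AddSubgroup M → Subgroup Γ} {e : AddSubgroup M}

/-- `B` centralises `e` (REPAIR 2). -/
theorem fixe_of (F : Frame X Pt VV) [Finite M] (h1 : OneAx Pt VV) (he : e ∈ Pt) {B : Subgroup Γ} (hB : B ≤ X)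
    (quad : ∀ b ∈ B, ∀ b' ∈ B, ∀ m : M, b • (b' • m + m) = b' • m + m)
    (norm : ∀ a ∈ VV e, ∀ b ∈ B, a * b * a⁻¹ ∈ B) (hfix : ∀ b ∈ B, b • e = e) {x : M} (hx : x ∈ e)
    (hx0 : x ≠ 0) (hbx : ∀ b ∈ B, b • x = x) : ∀ b ∈ B, ∀ y ∈ e, b • y = y := by
  intro b hb y hy
  obtain ⟨s, hs, hes⟩ := F.exists_mv he
  by_cases hc : ∀ v ∈ VV e, b * v * b⁻¹ = v
  · obtain ⟨v0, hv0, hv01⟩ := F.exists_ne_one he
    obtain ⟨u, hu, hvu⟩ := F.surj h1 he hs hes hv0 hv01 x hx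
    have h2 : ¬ ∀ a ∈ VV e, a • u = u := fun h => hx0 (by rw [← hvu, F.dd_eq_zero_iff]; exact h v0 hv0)
    obtain ⟨vy, hvy, hvyu⟩ := ((F.dich h1 he u).resolve_left h2).1 y hy
    have hcomm : ∀ v ∈ VV e, dd v (b • u) = b • dd v u := by
      intro v hv
      have h3 : b * v = v * b := mul_inv_eq_iff_eq_mul.1 (hc v hv)
      rw [dd_apply, dd_apply, smul_add, ← mul_smul, ← mul_smul, h3]
    have h4 : v0 • (u + b • u) = u + b • u := by
      rw [← F.dd_eq_zero_iff, map_add, hcomm v0 hv0, hvu, hbx b hb, F.two]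
    have h5 := F.fix_all h1 he hv0 hv01 h4 vy hvy
    rw [← F.dd_eq_zero_iff, map_add, hcomm vy hvy] at h5
    have h6 : dd vy u = y := by
      rw [dd_apply, hvyu, add_comm u y, add_assoc, F.two, add_zero]
    rw [h6] at h5
    exact (F.eq_of_add h5).symm
  · push Not at hc
    obtain ⟨v, hv, hne⟩ := hc
    have hc1 : v * (b * v⁻¹ * b⁻¹) ∈ VV e := by
      refine mul_mem hv ?_
      have := F.conj b (hB hb) e he v⁻¹ (inv_mem hv)
      rwa [hfix b hb] at this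
    have hc2 : v * (b * v⁻¹ * b⁻¹) ∈ B := by
      have h2 : v * (b * v⁻¹ * b⁻¹) = (v * b * v⁻¹) * b⁻¹ := by group
      rw [h2]
      exact mul_mem (norm v hv b hb) (inv_mem hb)
    have hc3 : v * (b * v⁻¹ * b⁻¹) ≠ 1 := by
      intro h
      apply hne
      have h2 := mul_eq_one_iff_inv_eq.1 h
      have h3 := congrArg (fun w => w⁻¹) h2
      simp only [inv_inv, mul_inv_rev] at h3
      rw [← mul_assoc] at h3
      exact h3.symm
    obtain ⟨u, hu, hcu⟩ := F.surj h1 he hs hes hc1 hc3 y hy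
    rw [← hcu, dd_apply]
    exact quad b hb _ hc2 u

end frame

variable {H M : Type*} [Group H] [AddCommGroup M] [DistribMulAction H M]

section comp

variable {ι : Type*} {T : ι → Subgroup H} {Ax R : ι → AddSubgroup M} {A : Set (AddSubgroup M)}
  {N : Subgroup H} {U : AddSubgroup M}

/-- Some vector of `U` is outside of `Ax i`. -/
theorem exists_not_mem [Finite M] (C : Comp T Ax R A N U) {i : ι} (hi : Ax i ∈ A) : ∃ u ∈ U, u ∉ Ax i := by
  obtain ⟨r, hr, hr0⟩ := (AddSubgroup.bot_or_exists_ne_zero (R i)).resolve_left (C.rne i)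
  have h1 : (1 : H) • Ax i ∈ A := by rwa [one_smul]
  have hrU : r ∈ U := C.root 1 i h1 (by rwa [one_smul])
  obtain ⟨g, hg, hrg⟩ := C.sep r hrU hr0
  have h2 : Adj H Ax R (Ax i) g := fun h => hrg (h (Rt.R_le_YY i hr))
  have h3 := C.adj_symm (Rt.isAx Ax i) (C.isax g hg) h2
  by_contra hcon
  push Not at hcon
  apply h3
  unfold YY
  rw [AddSubgroup.closure_le]
  rintro m ⟨c, j, hgj, y, hy, rfl⟩
  refine hcon _ (C.root c j (by rw [hgj]; exact hg) (AddSubgroup.smul_mem_pointwise_smul _ _ _ hy))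

/-- **One component.** -/
theorem comp_quad [Finite M] (C : Comp T Ax R A N U) {i : ι} (hi : Ax i ∈ A) (hN : N = ⨆ g ∈ A, TT T Ax g)
    (free : ∀ i, ∀ t ∈ T i, ∀ u : M, u ∉ Ax i → t • u = u → ∀ m : M, t • m = m)
    (one : OneAx (Ptt H Ax R A U) (Vv T Ax R A U)) {B : Subgroup H} (hB : B ≤ St H A U)
    (quad : ∀ b ∈ B, ∀ b' ∈ B, ∀ m : M, b • (b' • m + m) = b' • m + m)
    (norm : ∀ (c : H) (j : ι), c • Ax j ∈ A → (∀ t ∈ T j, ∀ x ∈ R i, (c * t * c⁻¹) • x = x) →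
      ∀ t ∈ T j, ∀ b ∈ B, c * t * c⁻¹ * b * (c * t * c⁻¹)⁻¹ ∈ B)
    {z : M} (hz : z ∈ R i) (hz0 : z ≠ 0) (hbz : ∀ b ∈ B, b • z = z) :
    ∀ b ∈ B, ∃ t ∈ T i, ∀ m ∈ U, b • m = t • m := by
  have F := frame C ⟨_, hi⟩ hN free
  have h1i : (1 : H) • Ax i ∈ A := by rwa [one_smul]
  set e : AddSubgroup ↥U := (R i).addSubgroupOf U with hedef
  have he : e ∈ Ptt H Ax R A U := ⟨1, i, h1i, by rw [one_smul]⟩
  have hRU : R i ≤ U := by
    have := C.root 1 i h1i
    rwa [one_smul] at this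
  set B' : Subgroup (Gm U) := (B.subgroupOf (St H A U)).map (act A U) with hB'
  have hmem : ∀ b' ∈ B', ∃ k : ↥(St H A U), (k : H) ∈ B ∧ act A U k = b' := by
    rintro b' ⟨k, hk, rfl⟩
    exact ⟨k, hk, rfl⟩
  have hquad' : ∀ b ∈ B', ∀ b' ∈ B', ∀ m : ↥U, b • (b' • m + m) = b' • m + m := by
    intro b hb b' hb' m
    obtain ⟨k, hk, rfl⟩ := hmem b hb
    obtain ⟨k', hk', rfl⟩ := hmem b' hb'
    exact Subtype.ext (quad _ hk _ hk' m)
  have hnorm' : ∀ t ∈ Ptt H Ax R A U, ¬ Mv (Vv T Ax R A U) t e → ∀ a ∈ Vv T Ax R A U t, ∀ b ∈ B',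
      a * b * a⁻¹ ∈ B' := by
    intro t ht hte a ha
    have key : Vv T Ax R A U t ≤ Subgroup.normalizer (B' : Set (Gm U)) := by
      refine (Subgroup.closure_le _).2 ?_
      rintro a ⟨h, c, j, hc, hct, t', ht', hh, rfl⟩
      -- the root group `c T_j c⁻¹` fixes `R i`
      have hfixR : ∀ t ∈ T j, ∀ x ∈ R i, (c * t * c⁻¹) • x = x := by
        intro t1 ht1 x hx
        have h3 : c * t1 * c⁻¹ ∈ St H A U := st_of_mem C (gen_mem hN.ge hc ht1)
        have h4 := not_mv hte (v := act A U ⟨c * t1 * c⁻¹, h3⟩)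
          (Subgroup.subset_closure ⟨⟨c * t1 * c⁻¹, h3⟩, c, j, hc, hct, t1, ht1, rfl, rfl⟩)
          (x := ⟨x, hRU hx⟩) hx
        exact congrArg Subtype.val h4
      have h5 := norm c j hc hfixR
      have key1 : ∀ t1 ∈ T j, ∀ (k : ↥(St H A U)), (k : H) = c * t1 * c⁻¹ → ∀ b' ∈ B',
          act A U k * b' * (act A U k)⁻¹ ∈ B' := by
        intro t1 ht1 k hk b' hb'
        obtain ⟨k', hk', rfl⟩ := hmem b' hb'
        refine ⟨k * k' * k⁻¹, ?_, by rw [map_mul, map_mul, map_inv]⟩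
        change ((k * k' * k⁻¹ : ↥(St H A U)) : H) ∈ B
        have h6 := h5 t1 ht1 k' hk'
        rw [← hk] at h6
        exact h6
      rw [SetLike.mem_coe, Subgroup.mem_normalizer_iff]
      intro b'
      refine ⟨fun hb' => key1 t' ht' h hh b' hb', fun hb' => ?_⟩
      have h7 := key1 t'⁻¹ (inv_mem ht') h⁻¹ (by rw [Subgroup.coe_inv, hh]; group) _ hb'
      rw [map_inv] at h7
      convert h7 using 1
      group
    exact fun b hb => (Subgroup.mem_normalizer_iff.1 (key ha) b).1 hb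
  have hle' : B' ≤ Xx H A U := by
    intro b hb
    obtain ⟨k, -, rfl⟩ := hmem b hb
    exact ⟨k, rfl⟩
  have hfixe : ∀ b ∈ B', b • e = e := by
    intro b hb
    obtain ⟨k, hk, rfl⟩ := hmem b hb
    rw [hedef, act_smul_sub]
    have h2 : (k : H) • Ax i ∈ A := k.2.1.1 _ hi
    have h3 : (k : H) • R i = (1 : H) • R i := by
      refine C.root_eq h2 h1i (x := z) ?_ (by rwa [one_smul]) hz0
      rw [mem_smul, show (k : H)⁻¹ • z = z from hbz _ (inv_mem hk)]
      exact hz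
    rw [h3, one_smul]
  have Q : Quad (Xx H A U) (Ptt H Ax R A U) (Vv T Ax R A U) e B' :=
    { le := hle'
      quad := hquad'
      norm := hnorm'
      fixe := by
        refine fixe_of F one he hle' hquad' (hnorm' e he (F.mv_irrefl he)) hfixe (x := ⟨z, hRU hz⟩) hz ?_ ?_
        · exact fun h => hz0 (congrArg Subtype.val h)
        · intro b hb
          obtain ⟨k, hk, rfl⟩ := hmem b hb
          exact Subtype.ext (hbz _ hk) }
  intro b hb
  have hbS := hB hb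
  have hbB' : act A U ⟨b, hbS⟩ ∈ B' := ⟨⟨b, hbS⟩, hb, rfl⟩
  obtain ⟨v, hv, hvb⟩ := Q.main (F.out one he) F he hbB'
  -- `v` is the image of an element of `T i`
  obtain ⟨u, hu, hui⟩ := exists_not_mem C hi
  have h2 : dd v (⟨u, hu⟩ : ↥U) ∈ e := F.dd_mem he hv _
  obtain ⟨t, ht, htu⟩ := C.full i u hui _ h2
  have h3 : (1 : H) * t * (1 : H)⁻¹ ∈ St H A U := st_of_mem C (gen_mem hN.ge h1i ht)
  have h4 : t ∈ St H A U := by simpa using h3
  have h5 : act A U ⟨t, h4⟩ ∈ Vv T Ax R A U e :=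
    Subgroup.subset_closure ⟨⟨t, h4⟩, 1, i, h1i, by rw [one_smul], t, ht, by simp, rfl⟩
  have h6 : act A U ⟨t, h4⟩ • (⟨u, hu⟩ : ↥U) = v • (⟨u, hu⟩ : ↥U) := by
    rw [F.smul_eq v]
    exact Subtype.ext htu
  have h7 : ((act A U ⟨t, h4⟩)⁻¹ * v) • (⟨u, hu⟩ : ↥U) = ⟨u, hu⟩ := by
    rw [mul_smul, ← h6, inv_smul_smul]
  have h8 : (act A U ⟨t, h4⟩)⁻¹ * v = 1 := by
    rcases F.dich one he (⟨u, hu⟩ : ↥U) with h9 | h9
    · exfalso
      obtain ⟨r, hr, hr0⟩ := (AddSubgroup.bot_or_exists_ne_zero (R i)).resolve_left (C.rne i)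
      obtain ⟨t1, ht1, htu1⟩ := C.full i u hui r hr
      have h3' : (1 : H) * t1 * (1 : H)⁻¹ ∈ St H A U := st_of_mem C (gen_mem hN.ge h1i ht1)
      have h4' : t1 ∈ St H A U := by simpa using h3'
      have h10 := h9 (act A U ⟨t1, h4'⟩)
        (Subgroup.subset_closure ⟨⟨t1, h4'⟩, 1, i, h1i, by rw [one_smul], t1, ht1, by simp, rfl⟩)
      have h11 : t1 • u = u := congrArg Subtype.val h10
      rw [htu1] at h11
      exact hr0 (add_eq_left.1 h11)
    · exact h9.2 _ (mul_mem (inv_mem h5) hv) h7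
  have h9 : v = act A U ⟨t, h4⟩ := (inv_mul_eq_one.1 h8).symm
  refine ⟨t, ht, fun m hm => ?_⟩
  have h10 := hvb ⟨m, hm⟩
  rw [h9] at h10
  exact congrArg Subtype.val h10

end comp

/-- The data of (Q) for `k ≥ 1`. -/
structure QK {ι : Type*} (T : ι → Subgroup H) (Ax R : ι → AddSubgroup M) (A : ι → Set (AddSubgroup M))
    (N : ι → Subgroup H) (U : ι → AddSubgroup M) (I : AddSubgroup M) (z : ι → M) (B : Subgroup H) : Prop where
  comp : ∀ i, Comp T Ax R (A i) (N i) (U i)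
  ax : ∀ i, Ax i ∈ A i
  gen : ∀ i, N i = ⨆ g ∈ A i, TT T Ax g
  free : ∀ i, ∀ t ∈ T i, ∀ u : M, u ∉ Ax i → t • u = u → ∀ m : M, t • m = m
  one : ∀ i, OneAx (Ptt H Ax R (A i) (U i)) (Vv T Ax R (A i) (U i))
  fixU : ∀ i, ∀ t ∈ T i, ∀ j, j ≠ i → ∀ u ∈ U j, t • u = u
  fixI : ∀ i, ∀ t ∈ T i, ∀ u ∈ I, t • u = u
  disj : ∀ i j, i ≠ j → U i ⊓ U j = ⊥
  span : (⨆ i, U i) ⊔ I = ⊤
  quad : ∀ b ∈ B, ∀ b' ∈ B, ∀ m : M, b • (b' • m + m) = b' • m + m
  perm : ∀ b ∈ B, ∀ i, ∃ j, b • U i = U j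
  permA : ∀ b ∈ B, ∀ i, b • U i = U i → ∀ g ∈ A i, b • g ∈ A i
  norm : ∀ (i : ι) (c : H) (j : ι), c • Ax j ∈ A i → (∀ t ∈ T j, ∀ x ∈ R i, (c * t * c⁻¹) • x = x) →
    ∀ t ∈ T j, ∀ b ∈ B, c * t * c⁻¹ * b * (c * t * c⁻¹)⁻¹ ∈ B
  zR : ∀ i, z i ∈ R i
  z0 : ∀ i, z i ≠ 0
  bz : ∀ b ∈ B, ∀ i, b • U i = U i → b • z i = z i
  bI : ∀ b ∈ B, ∀ u ∈ I, b • u = u

namespace QK

variable {ι : Type*} {T : ι → Subgroup H} {Ax R : ι → AddSubgroup M} {A : ι → Set (AddSubgroup M)}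
  {N : ι → Subgroup H} {U : ι → AddSubgroup M} {I : AddSubgroup M} {z : ι → M} {B : Subgroup H}
  (Q : QK T Ax R A N U I z B)
include Q

theorem two (i : ι) (m : M) : m + m = 0 := (Q.comp i).char2 m

theorem sq (i : ι) {b : H} (hb : b ∈ B) (m : M) : b • b • m = m := by
  have h1 := Q.quad b hb b hb m
  rw [smul_add] at h1
  have h2 : b • b • m + b • m + b • m = b • m + m + b • m := by rw [h1]
  rw [add_assoc, Q.two i, add_zero, add_comm (b • m) m, add_assoc, Q.two i, add_zero] at h2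
  exact h2

theorem inv_smul (i : ι) {b : H} (hb : b ∈ B) (m : M) : b⁻¹ • m = b • m := by
  rw [inv_smul_eq_iff, Q.sq i hb]

theorem R_le (i : ι) : R i ≤ U i := by
  have := (Q.comp i).root 1 i (by rw [one_smul]; exact Q.ax i)
  rwa [one_smul] at this

theorem norm_self (i : ι) {t : H} (ht : t ∈ T i) {b : H} (hb : b ∈ B) : t * b * t⁻¹ ∈ B := by
  have h1 := Q.norm i 1 i (by rw [one_smul]; exact Q.ax i) (fun t ht x hx => by
    rw [one_mul, inv_one, mul_one]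
    exact (Q.comp i).fix i t ht x ((Q.comp i).le i i hx)) t ht b hb
  simpa using h1

variable [Finite M]

/-- `B` fixes all the `U i`. -/
theorem fix_U {b : H} (hb : b ∈ B) (i : ι) : b • U i = U i := by
  obtain ⟨j, hj⟩ := Q.perm b hb i
  by_cases hij : j = i
  · rwa [hij] at hj
  exfalso
  have C := Q.comp i
  obtain ⟨u, hu, hui⟩ := exists_not_mem C (Q.ax i)
  obtain ⟨r, hr, hr0⟩ := (AddSubgroup.bot_or_exists_ne_zero (R i)).resolve_left (C.rne i)
  obtain ⟨c, hc, hcu⟩ := C.full i u hui r hr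
  have hrU : r ∈ U i := Q.R_le i hr
  have hcr : c • r = r := C.fix i c hc r (C.le i i hr)
  -- the commutator `d = (b c b⁻¹) c⁻¹`
  have hd : b * (c * b⁻¹ * c⁻¹) ∈ B := mul_mem hb (Q.norm_self i hc (inv_mem hb))
  have h1 := Q.quad _ hd b hb u
  have hbu : b • u ∈ U j := by rw [← hj]; exact AddSubgroup.smul_mem_pointwise_smul _ _ _ hu
  have hbr : b • r ∈ U j := by rw [← hj]; exact AddSubgroup.smul_mem_pointwise_smul _ _ _ hrU
  have hcfix : ∀ m ∈ U j, c • m = m := fun m hm => Q.fixU i c hc j hij m hm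
  have hcinv : ∀ m ∈ U j, c⁻¹ • m = m := fun m hm => by rw [inv_smul_eq_iff, hcfix m hm]
  have hcu' : c⁻¹ • u = u + r := by
    rw [inv_smul_eq_iff, smul_add, hcu, hcr, add_assoc, Q.two i, add_zero]
  have h2 : (b * (c * b⁻¹ * c⁻¹)) • (b • u + u) = b • u + b • r + (u + r) := by
    rw [mul_smul, mul_smul, mul_smul, smul_add c⁻¹, hcinv _ hbu, hcu', Q.inv_smul i hb, smul_add b, Q.sq i hb,
      smul_add b, smul_add c, smul_add c, hcu, hcfix _ hbu, hcfix _ hbr, smul_add b, smul_add b, smul_add b,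
      Q.sq i hb, Q.sq i hb]
  rw [h2] at h1
  have h3 : b • r + r = 0 := by
    have h4 : b • u + b • r + (u + r) = b • u + u + (b • r + r) := by abel
    rw [h4] at h1
    exact add_eq_left.1 h1
  have h5 : b • r = r := by
    have h6 : b • r + r = r + r := by rw [h3, Q.two i]
    exact add_right_cancel h6
  have h7 : r ∈ U i ⊓ U j := ⟨hrU, by rw [h5] at hbr; exact hbr⟩
  rw [Q.disj i j (Ne.symm hij)] at h7
  exact hr0 h7

/-- **(Q)** : every `b ∈ B` acts on `M` as an element of `⨆ i, T i`. -/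
theorem main [Finite ι] {b : H} (hb : b ∈ B) : ∃ v ∈ ⨆ i, T i, ∀ m : M, b • m = v • m := by
  classical
  have := Fintype.ofFinite ι
  have h1 : ∀ i, ∃ t ∈ T i, ∀ m ∈ U i, b • m = t • m := by
    intro i
    have hSt : B ≤ St H (A i) (U i) := by
      intro b' hb'
      have h2 := Q.fix_U hb' i
      have h3 := Q.fix_U (inv_mem hb') i
      refine ⟨⟨Q.permA b' hb' i h2, Q.permA _ (inv_mem hb') i h3⟩, fun u hu => ?_, fun u hu => ?_⟩
      · rw [← h2]
        exact AddSubgroup.smul_mem_pointwise_smul _ _ _ hu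
      · rw [← h3]
        exact AddSubgroup.smul_mem_pointwise_smul _ _ _ hu
    exact comp_quad (Q.comp i) (Q.ax i) (Q.gen i) Q.free (Q.one i) hSt Q.quad (Q.norm i) (Q.zR i) (Q.z0 i)
      (fun b' hb' => Q.bz b' hb' i (Q.fix_U hb' i)) b hb
  choose t ht htb using h1
  have key : ∀ s : Finset ι, ∃ v ∈ ⨆ i, T i, (∀ i ∈ s, ∀ m ∈ U i, v • m = t i • m) ∧
      (∀ i, i ∉ s → ∀ m ∈ U i, v • m = m) ∧ ∀ m ∈ I, v • m = m := by
    intro s
    induction s using Finset.induction_on with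
    | empty =>
      exact ⟨1, one_mem _, fun i hi => absurd hi (Finset.notMem_empty i), fun i _ m _ => one_smul _ m,
        fun m _ => one_smul _ m⟩
    | insert j s hj ih =>
      obtain ⟨v, hv, h2, h3, h4⟩ := ih
      refine ⟨v * t j, mul_mem hv (Subgroup.mem_iSup_of_mem j (ht j)), ?_, ?_, ?_⟩
      · intro i hi m hm
        rcases Finset.mem_insert.1 hi with rfl | hi'
        · rw [mul_smul]
          refine h3 i hj _ ?_
          rw [← htb i m hm]
          have h5 := Q.fix_U hb i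
          rw [← h5]
          exact AddSubgroup.smul_mem_pointwise_smul _ _ _ hm
        · have hij : i ≠ j := fun h => hj (h ▸ hi')
          rw [mul_smul, Q.fixU j _ (ht j) i hij m hm, h2 i hi' m hm]
      · intro i hi m hm
        rw [Finset.mem_insert, not_or] at hi
        rw [mul_smul, Q.fixU j _ (ht j) i hi.1 m hm, h3 i hi.2 m hm]
      · intro m hm
        rw [mul_smul, Q.fixI j _ (ht j) m hm, h4 m hm]
  obtain ⟨v, hv, h2, -, h4⟩ := key Finset.univ
  refine ⟨v, hv, ?_⟩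
  let E : AddSubgroup M :=
    { carrier := {m | b • m = v • m}
      zero_mem' := by simp
      add_mem' := fun {a c} ha hc => by
        change b • (a + c) = v • (a + c)
        rw [smul_add, smul_add, ha, hc]
      neg_mem' := fun {a} ha => by
        change b • (-a) = v • (-a)
        rw [smul_neg, smul_neg, ha] }
  have hE : (⨆ i, U i) ⊔ I ≤ E := by
    refine sup_le (iSup_le fun i m hm => ?_) fun m hm => ?_
    · change b • m = v • m
      rw [htb i m hm, h2 i (Finset.mem_univ i) m hm]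
    · change b • m = v • m
      rw [Q.bI b hb m hm, h4 m hm]
  rw [Q.span] at hE
  exact fun m => hE (AddSubgroup.mem_top m)

end QK

end Cfsg.Agent.Omega.NOThreeL.RSplit.QuadAll

end

section


/-!
# NO-3L, box R, `q > 2`, split (helper797 #19602 (7)(a), helper602's REPAIR 1): many axes

If two points `e`, `p` with `Vv e` centralising `p` are always equal (MANY), then the axes (in `A`) with centre
`d • R j` meet, inside `U`, in `d • R j`.
-/

set_option autoImplicit false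

namespace Cfsg.Agent.Omega.NOThreeL.RSplit.ManyAx

open scoped Pointwise
open Cfsg.Agent.Omega.NOThreeL.ThmAx (Full IsAx TT YY Adj mem_smul smul_eq_of YY_smul YY_smul_eq adj_smul IsAx.smul)
open Cfsg.Agent.Omega.NOThreeL.RSplit.Root (Rt)
open Cfsg.Agent.Omega.NOThreeL.RSplit.Hull (Comp hull mem_of_fix)
open Cfsg.Agent.Omega.NOThreeL.RSplit.FrameOf
open Cfsg.Agent.Omega.NOThreeL.RBig.Pts (Frame Mv OneAx Out not_mv)

variable {H M : Type*} [Group H] [AddCommGroup M] [DistribMulAction H M]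
variable {ι : Type*} {T : ι → Subgroup H} {Ax R : ι → AddSubgroup M} {A : Set (AddSubgroup M)}
  {N : Subgroup H} {U : AddSubgroup M}

/-- MANY. -/
def Many (T : ι → Subgroup H) (Ax R : ι → AddSubgroup M) (A : Set (AddSubgroup M)) (U : AddSubgroup M) : Prop :=
  ∀ e ∈ Ptt H Ax R A U, ∀ p ∈ Ptt H Ax R A U, ¬ Mv (Vv T Ax R A U) e p → e = p

theorem eq_of_sub (C : Comp T Ax R A N U) {c d : H} {i j : ι} (hc : c • Ax i ∈ A) (hd : d • Ax j ∈ A)
    (h : (c • R i).addSubgroupOf U = (d • R j).addSubgroupOf U) : c • R i = d • R j := by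
  have h1 := AddSubgroup.addSubgroupOf_inj.1 h
  rwa [inf_eq_left.2 (C.root c i hc), inf_eq_left.2 (C.root d j hd)] at h1

/-- **MANY : a vector of `U` fixed by all root groups with centre `d • R j` lies in `d • R j`.** -/
theorem mem_of_fix_all [Finite M] (C : Comp T Ax R A N U) (hN : N = ⨆ g ∈ A, TT T Ax g)
    (free : ∀ i, ∀ t ∈ T i, ∀ u : M, u ∉ Ax i → t • u = u → ∀ m : M, t • m = m)
    (hM : Many T Ax R A U) {d : H} {j : ι} (hd : d • Ax j ∈ A) {u : M} (hu : u ∈ U)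
    (h : ∀ (c : H) (i : ι), c • Ax i ∈ A → c • R i = d • R j → ∀ t ∈ T i, (c * t * c⁻¹) • u = u) : u ∈ d • R j := by
  by_cases hu0 : u = 0
  · rw [hu0]
    exact zero_mem _
  have F := frame C ⟨_, hd⟩ hN free
  obtain ⟨n, hn, hnd, hx⟩ := C.exists_root hd hu
  set e : AddSubgroup ↥U := (d • R j).addSubgroupOf U with hedef
  set p : AddSubgroup ↥U := ((n * d) • R j).addSubgroupOf U with hpdef
  have he : e ∈ Ptt H Ax R A U := ⟨d, j, hd, rfl⟩
  have hp : p ∈ Ptt H Ax R A U := ⟨n * d, j, hnd, rfl⟩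
  -- `Vv e` fixes `u`
  have hfix : ∀ v ∈ Vv T Ax R A U e, v • (⟨u, hu⟩ : ↥U) = ⟨u, hu⟩ := by
    intro v hv
    refine Subgroup.closure_induction (p := fun v _ => v • (⟨u, hu⟩ : ↥U) = ⟨u, hu⟩) ?_ (one_smul _ _)
      (fun a b _ _ ha hb => by rw [mul_smul, hb, ha]) (fun a _ ha => by rw [inv_smul_eq_iff, ha]) hv
    rintro a ⟨k, c, i, hc, hce, t, ht, hk, rfl⟩
    apply Subtype.ext
    rw [act_smul, hk]
    exact h c i hc (eq_of_sub C hc hd hce) t ht
  have hmv : ¬ Mv (Vv T Ax R A U) e p := by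
    intro hmv
    have hpe := F.symm he hp hmv
    obtain ⟨v, hv, x, hx', hne⟩ := hmv
    rcases F.bij e he p hp hpe v hv with h2 | h2
    · exact hne (h2 x hx')
    · have h3 := h2 ⟨u, hu⟩ hx (hfix v hv)
      exact hu0 (congrArg Subtype.val h3)
  have h2 := hM e he p hp hmv
  have h3 : (⟨u, hu⟩ : ↥U) ∈ p := hx
  rw [← h2] at h3
  exact h3

/-- **MANY : the axes with centre `d • R j` meet, inside `U`, in `d • R j`.** -/
theorem mem_of_mem_axes [Finite M] (C : Comp T Ax R A N U) (hN : N = ⨆ g ∈ A, TT T Ax g)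
    (free : ∀ i, ∀ t ∈ T i, ∀ u : M, u ∉ Ax i → t • u = u → ∀ m : M, t • m = m)
    (hM : Many T Ax R A U) {d : H} {j : ι} (hd : d • Ax j ∈ A) {u : M} (hu : u ∈ U)
    (h : ∀ (c : H) (i : ι), c • Ax i ∈ A → c • R i = d • R j → u ∈ c • Ax i) : u ∈ d • R j := by
  refine mem_of_fix_all C hN free hM hd hu fun c i hc hcd t ht => ?_
  have h2 := mem_smul.1 (h c i hc hcd)
  rw [mul_smul, mul_smul, C.fix i t ht _ h2, smul_inv_smul]

/-- The dichotomy, with `Many`. -/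
theorem many_or [Finite M] (C : Comp T Ax R A N U) (hA : A.Nonempty) (hN : N = ⨆ g ∈ A, TT T Ax g)
    (free : ∀ i, ∀ t ∈ T i, ∀ u : M, u ∉ Ax i → t • u = u → ∀ m : M, t • m = m) :
    Many T Ax R A U ∨ (OneAx (Ptt H Ax R A U) (Vv T Ax R A U) ∧
        ∀ e ∈ Ptt H Ax R A U, Out (Ptt H Ax R A U) (Vv T Ax R A U) e) :=
  dichotomy C hA hN free

end Cfsg.Agent.Omega.NOThreeL.RSplit.ManyAx

end

section


/-!
# NO-3L, box R, `q > 2`, split (helper797 #19602 (7)): the dichotomy and (Q) over 683's `Fv`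

* `VG T Ax R A P` : the group generated (in `H`) by the root groups `c T_i c⁻¹` with axis in `A` and centre `P`;
  `mem_Vv_iff`, `OneG`, `oneAx_iff`, `OneG.smul`;
* **`many_or_one`** : all components have MANY axes (`Many`), or all have ONE axis (`OneAx`);
* **`qk_of`**, **`quad_main`** : (Q) for `B ≤ C_H(z₀) ∩ C(I)` normalised by this group, quadratic.
-/

set_option autoImplicit false

namespace Cfsg.Agent.Omega.NOThreeL.RSplit.QuadFv

open scoped Pointwise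
open Cfsg.Agent.Omega.NOThreeL.ThmAx (Full IsAx TT YY Adj mem_smul smul_eq_of YY_smul YY_smul_eq adj_smul IsAx.smul)
open Cfsg.Agent.Omega.NOThreeL.RSplit.Root (Rt Ex)
open Cfsg.Agent.Omega.NOThreeL.RSplit.Hull (Comp hull mem_of_fix)
open Cfsg.Agent.Omega.NOThreeL.RSplit.FrameOf
open Cfsg.Agent.Omega.NOThreeL.RSplit.ManyAx (Many eq_of_sub many_or)
open Cfsg.Agent.Omega.NOThreeL.RSplit.QuadAll (QK)
open Cfsg.Agent.Omega.NOThreeL.RSplit.Five
open Cfsg.Agent.Omega.NOThreeL.RBig.Pts (OneAx Mv)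

variable {H M : Type*} [Group H] [AddCommGroup M] [DistribMulAction H M]
variable {ι : Type*}

section VG

/-- The group generated by the root groups with axis in `A` and centre `P`. -/
def VG (T : ι → Subgroup H) (Ax R : ι → AddSubgroup M) (A : Set (AddSubgroup M)) (P : AddSubgroup M) : Subgroup H :=
  Subgroup.closure {h | ∃ (c : H) (i : ι), c • Ax i ∈ A ∧ c • R i = P ∧ ∃ t ∈ T i, h = c * t * c⁻¹}

/-- ONE AXIS, in the group. -/
def OneG (T : ι → Subgroup H) (Ax R : ι → AddSubgroup M) (A : Set (AddSubgroup M)) (U : AddSubgroup M) : Prop :=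
  ∀ (c : H) (i : ι) (d : H) (j : ι), c • Ax i ∈ A → d • Ax j ∈ A →
    (∃ v ∈ VG T Ax R A (c • R i), ∃ x ∈ d • R j, v • x ≠ x) →
    ∀ v ∈ VG T Ax R A (c • R i), (∀ x ∈ d • R j, v • x = x) → ∀ m ∈ U, v • m = m

variable {T : ι → Subgroup H} {Ax R : ι → AddSubgroup M} {A A' : Set (AddSubgroup M)}
  {N : Subgroup H} {U U' : AddSubgroup M}

theorem VG_le (C : Comp T Ax R A N U) (hN : N = ⨆ g ∈ A, TT T Ax g) (P : AddSubgroup M) :
    VG T Ax R A P ≤ St H A U := by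
  refine (Subgroup.closure_le _).2 ?_
  rintro h ⟨c, i, hc, -, t, ht, rfl⟩
  exact st_of_mem C (gen_mem hN.ge hc ht)

theorem mem_Vv_iff (C : Comp T Ax R A N U) (hN : N = ⨆ g ∈ A, TT T Ax g) {d : H} {j : ι} (hd : d • Ax j ∈ A)
    {v : Gm U} : v ∈ Vv T Ax R A U ((d • R j).addSubgroupOf U) ↔
      ∃ k : ↥(St H A U), (k : H) ∈ VG T Ax R A (d • R j) ∧ act A U k = v := by
  constructor
  · intro hv
    have h1 : Vv T Ax R A U ((d • R j).addSubgroupOf U) ≤
        ((VG T Ax R A (d • R j)).subgroupOf (St H A U)).map (act A U) := by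
      refine (Subgroup.closure_le _).2 ?_
      rintro a ⟨h, c, i, hc, hce, t, ht, hh, rfl⟩
      exact ⟨h, Subgroup.subset_closure ⟨c, i, hc, eq_of_sub C hc hd hce, t, ht, hh⟩, rfl⟩
    obtain ⟨k, hk, hkv⟩ := h1 hv
    exact ⟨k, hk, hkv⟩
  · rintro ⟨k, hk, rfl⟩
    have h1 : VG T Ax R A (d • R j) ≤
        ((Vv T Ax R A U ((d • R j).addSubgroupOf U)).comap (act A U)).map (St H A U).subtype := by
      refine (Subgroup.closure_le _).2 ?_
      rintro h ⟨c, i, hc, hce, t, ht, rfl⟩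
      have h3 : c * t * c⁻¹ ∈ St H A U := st_of_mem C (gen_mem hN.ge hc ht)
      exact ⟨⟨c * t * c⁻¹, h3⟩, Subgroup.subset_closure ⟨_, c, i, hc, by rw [hce], t, ht, rfl, rfl⟩, rfl⟩
    obtain ⟨k', hk', hkk⟩ := h1 hk
    have : k' = k := Subtype.ext hkk
    rw [← this]
    exact hk'

theorem oneAx_iff (C : Comp T Ax R A N U) (hN : N = ⨆ g ∈ A, TT T Ax g) :
    OneAx (Ptt H Ax R A U) (Vv T Ax R A U) ↔ OneG T Ax R A U := by
  constructor
  · rintro h c i d j hc hd ⟨v, hv, x, hx, hne⟩ w hw hfix m hm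
    have hvS := VG_le C hN _ hv
    have hwS := VG_le C hN _ hw
    have h1 := h _ ⟨c, i, hc, rfl⟩ _ ⟨d, j, hd, rfl⟩
      ⟨act A U ⟨v, hvS⟩, (mem_Vv_iff C hN hc).2 ⟨⟨v, hvS⟩, hv, rfl⟩, ⟨x, C.root d j hd hx⟩, hx,
        fun h2 => hne (congrArg Subtype.val h2)⟩
      (act A U ⟨w, hwS⟩) ((mem_Vv_iff C hN hc).2 ⟨⟨w, hwS⟩, hw, rfl⟩)
      (fun y hy => Subtype.ext (hfix y hy))
    have h2 : act A U ⟨w, hwS⟩ • (⟨m, hm⟩ : ↥U) = ⟨m, hm⟩ := by rw [h1, one_smul]
    exact congrArg Subtype.val h2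
  · rintro h p ⟨c, i, hc, rfl⟩ r ⟨d, j, hd, rfl⟩ ⟨v, hv, x, hx, hne⟩ w hw hfix
    obtain ⟨k, hk, rfl⟩ := (mem_Vv_iff C hN hc).1 hv
    obtain ⟨l, hl, rfl⟩ := (mem_Vv_iff C hN hc).1 hw
    have h1 := h c i d j hc hd ⟨k, hk, x, hx, fun h2 => hne (Subtype.ext h2)⟩ l hl
      (fun y hy => congrArg Subtype.val (hfix ⟨y, C.root d j hd hy⟩ hy))
    exact gm_ext fun m => by rw [one_smul]; exact Subtype.ext (h1 m m.2)

theorem VG_smul (x : H) (hA : ∀ g, g ∈ A' ↔ x⁻¹ • g ∈ A) {P : AddSubgroup M} {v : H}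
    (hv : v ∈ VG T Ax R A' (x • P)) : x⁻¹ * v * x ∈ VG T Ax R A P := by
  have h1 : VG T Ax R A' (x • P) ≤ (VG T Ax R A P).comap (MulAut.conj x⁻¹).toMonoidHom := by
    refine (Subgroup.closure_le _).2 ?_
    rintro h ⟨c, i, hc, hce, t, ht, rfl⟩
    refine Subgroup.subset_closure ⟨x⁻¹ * c, i, ?_, ?_, t, ht, ?_⟩
    · rw [mul_smul]
      exact (hA _).1 hc
    · rw [mul_smul, hce, inv_smul_smul]
    · change x⁻¹ * (c * t * c⁻¹) * x⁻¹⁻¹ = _
      group
  have h2 : x⁻¹ * v * x⁻¹⁻¹ ∈ VG T Ax R A P := h1 hv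
  rwa [inv_inv] at h2

theorem OneG.smul (h : OneG T Ax R A U) (x : H) (hA : ∀ g, g ∈ A' ↔ x⁻¹ • g ∈ A) (hU : ∀ m ∈ U', x⁻¹ • m ∈ U) :
    OneG T Ax R A' U' := by
  rintro c i d j hc hd ⟨v, hv, y, hy, hne⟩ w hw hfix m hm
  have e1 : c • R i = x • ((x⁻¹ * c) • R i) := by rw [mul_smul, smul_inv_smul]
  rw [e1] at hv hw
  have hv' := VG_smul x hA hv
  have hw' := VG_smul x hA hw
  have hc' : (x⁻¹ * c) • Ax i ∈ A := by rw [mul_smul]; exact (hA _).1 hc
  have hd' : (x⁻¹ * d) • Ax j ∈ A := by rw [mul_smul]; exact (hA _).1 hd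
  have h1 := h _ i _ j hc' hd' ⟨_, hv', x⁻¹ • y, ?_, ?_⟩ _ hw' ?_ (x⁻¹ • m) (hU m hm)
  · rw [mul_smul, mul_smul, smul_inv_smul] at h1
    exact smul_left_cancel _ h1
  · rw [mul_smul]
    exact AddSubgroup.smul_mem_pointwise_smul _ _ _ hy
  · rw [mul_smul, mul_smul, smul_inv_smul]
    exact fun h2 => hne (smul_left_cancel _ h2)
  · intro y' hy'
    rw [mul_smul, mem_smul, inv_inv] at hy'
    rw [mul_smul, mul_smul, hfix _ hy', inv_smul_smul]

end VG

section fv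

variable [Fintype ι] [Finite H] [Finite M] {T : ι → Subgroup H} {Ax R : ι → AddSubgroup M} {z : ι → M} {Z : Set M}
  (D : Fv T Ax R z Z)
include D

theorem uc_disj {i j : ι} (hij : i ≠ j) : Uc H Ax R i ⊓ Uc H Ax R j = ⊥ := by
  rw [eq_bot_iff]
  rintro u ⟨hi, hj⟩
  by_contra h0
  obtain ⟨g, hg, hu⟩ := (D.comp i).sep u hi h0
  exact hu (D.Uc_le hij hg hj)

theorem uc_inj {i j : ι} (h : Uc H Ax R i = Uc H Ax R j) : i = j := by
  by_contra hij
  have h1 := uc_disj D hij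
  rw [← h, inf_idem] at h1
  exact (D.comp i).rne i (le_bot_iff.1 ((D.R_le_Uc i).trans h1.le))

/-- `H` permutes the components. -/
theorem smul_cpt (x : H) (i : ι) : ∃ j, x • Uc H Ax R i = Uc H Ax R j ∧
    ∀ g, g ∈ Cpt H Ax R j ↔ x⁻¹ • g ∈ Cpt H Ax R i := by
  obtain ⟨j, hj⟩ := D.cover (IsAx.smul (Rt.isAx Ax i) x)
  have h1 : ∀ g, g ∈ Cpt H Ax R j ↔ x⁻¹ • g ∈ Cpt H Ax R i := by
    intro g
    rw [← D.Cpt_eq hj, D.axSys.smul_Cp]
    rfl
  refine ⟨j, ?_, h1⟩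
  obtain ⟨l, hl⟩ := D.smul_Uc x i
  rw [hl]
  by_contra hne
  have hlj : j ≠ l := fun h => hne (by rw [h])
  -- `x • R i ≤ U_l ∩ U_j`
  have h2 : x • R i ≤ Uc H Ax R j := (D.comp j).root x i hj
  have h3 : x • R i ≤ Uc H Ax R l := by
    rw [← hl]
    intro m hm
    rw [mem_smul] at hm ⊢
    exact D.R_le_Uc i hm
  have h4 : x • R i ≤ ⊥ := by
    rw [← uc_disj D hlj]
    exact le_inf h2 h3
  obtain ⟨r, hr, hr0⟩ := (AddSubgroup.bot_or_exists_ne_zero (R i)).resolve_left ((D.comp i).rne i)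
  have h5 := h4 (AddSubgroup.smul_mem_pointwise_smul _ x _ hr)
  exact hr0 ((smul_eq_zero_iff_eq x).1 (AddSubgroup.mem_bot.1 h5))

/-- ONE AXIS for one component: for all. -/
theorem one_all {i : ι} (h : OneG T Ax R (Cpt H Ax R i) (Uc H Ax R i)) (j : ι) :
    OneG T Ax R (Cpt H Ax R j) (Uc H Ax R j) := by
  obtain ⟨x, hx⟩ := D.trans i j
  obtain ⟨l, hl, h1⟩ := smul_cpt D x i
  have hlj : l = j := by
    refine eq_of_mem_Cpt D.toEx ((h1 _).2 ?_)
    rw [← hx, inv_smul_smul]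
    exact Fv.self_mem i
  subst hlj
  refine h.smul x h1 fun m hm => ?_
  rw [← hl, mem_smul] at hm
  exact hm

/-- **All components have many axes, or all have one axis.** -/
theorem many_or_one (free : ∀ i, ∀ t ∈ T i, ∀ u : M, u ∉ Ax i → t • u = u → ∀ m : M, t • m = m) :
    (∀ i, Many T Ax R (Cpt H Ax R i) (Uc H Ax R i)) ∨
      (∀ i, OneAx (Ptt H Ax R (Cpt H Ax R i) (Uc H Ax R i)) (Vv T Ax R (Cpt H Ax R i) (Uc H Ax R i))) := by
  by_cases h : ∃ i, OneAx (Ptt H Ax R (Cpt H Ax R i) (Uc H Ax R i)) (Vv T Ax R (Cpt H Ax R i) (Uc H Ax R i))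
  · obtain ⟨i, hi⟩ := h
    refine Or.inr fun j => ?_
    rw [oneAx_iff (D.comp j) rfl]
    rw [oneAx_iff (D.comp i) rfl] at hi
    exact one_all D hi j
  · push Not at h
    exact Or.inl fun i => (many_or (D.comp i) ⟨_, Fv.self_mem i⟩ rfl free).resolve_right fun h1 => h i h1.1

/-- An element fixing `∑ z i` and `U_i` fixes `z i`. -/
theorem fix_comp {x : H} (hx : x • ∑ i, z i = ∑ i, z i) {i : ι} (hi : x • Uc H Ax R i = Uc H Ax R i) :
    x • z i = z i := by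
  classical
  by_contra hne
  have h0 : x • z i - z i ≠ 0 := fun h => hne (sub_eq_zero.1 h)
  have hzi : ∀ j, z j ∈ Uc H Ax R j := fun j => D.R_le_Uc j (D.zR j)
  have h1 : x • z i - z i ∈ Uc H Ax R i := by
    refine sub_mem ?_ (hzi i)
    rw [← hi]
    exact AddSubgroup.smul_mem_pointwise_smul _ _ _ (hzi i)
  obtain ⟨g, hg, hgx⟩ := (D.comp i).sep _ h1 h0
  apply hgx
  rw [← Finset.add_sum_erase Finset.univ z (Finset.mem_univ i), smul_add] at hx
  have h2 : x • z i - z i = (∑ j ∈ Finset.univ.erase i, z j) - x • ∑ j ∈ Finset.univ.erase i, z j := by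
    rw [sub_eq_sub_iff_add_eq_add, hx, add_comm]
  rw [h2]
  refine sub_mem (sum_mem fun j hj => ?_) ?_
  · rw [Finset.mem_erase] at hj
    exact D.Uc_le (Ne.symm hj.1) hg (hzi j)
  · rw [Finset.smul_sum]
    refine sum_mem fun j hj => ?_
    rw [Finset.mem_erase] at hj
    obtain ⟨l, hl⟩ := D.smul_Uc x j
    have hli : i ≠ l := by
      rintro rfl
      apply hj.1
      refine uc_inj D ?_
      rw [← hi] at hl
      exact smul_left_cancel x hl
    refine D.Uc_le hli hg ?_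
    rw [← hl]
    exact AddSubgroup.smul_mem_pointwise_smul _ _ _ (hzi j)

/-- **The data `QK` of (Q).** -/
theorem qk_of (free : ∀ i, ∀ t ∈ T i, ∀ u : M, u ∉ Ax i → t • u = u → ∀ m : M, t • m = m)
    (one : ∀ i, OneAx (Ptt H Ax R (Cpt H Ax R i) (Uc H Ax R i)) (Vv T Ax R (Cpt H Ax R i) (Uc H Ax R i)))
    {B : Subgroup H} (hBz : ∀ b ∈ B, b • ∑ i, z i = ∑ i, z i) (hBI : ∀ b ∈ B, ∀ u ∈ Ic H Ax, b • u = u)
    (hBC : ∀ h : H, h • ∑ i, z i = ∑ i, z i → (∀ u ∈ Ic H Ax, h • u = u) → ∀ b ∈ B, h * b * h⁻¹ ∈ B)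
    (quad : ∀ b ∈ B, ∀ b' ∈ B, ∀ m : M, b • (b' • m + m) = b' • m + m) :
    QK T Ax R (Cpt H Ax R) (Nc T Ax R) (Uc H Ax R) (Ic H Ax) z B where
  comp := D.comp
  ax := fun i => Fv.self_mem i
  gen := fun i => rfl
  free := free
  one := one
  fixU := fun i t ht j hj u hu => D.fix i t ht u (D.Uc_le (Ne.symm hj) (Fv.self_mem i) hu)
  fixI := fun i t ht u hu => D.fix i t ht u (hu _ (Rt.isAx Ax i))
  disj := fun i j hij => uc_disj D hij
  span := D.span
  quad := quad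
  perm := fun b _ i => D.smul_Uc b i
  permA := fun b _ i hi g hg => by
    obtain ⟨j, hj, h2⟩ := smul_cpt D b i
    have h3 : i = j := uc_inj D (by rw [← hj, hi])
    rw [h3] at hg ⊢
    rw [h3] at h2
    rw [h2, inv_smul_smul]
    exact hg
  norm := by
    classical
    intro i c j hc hfix t ht b hb
    have hfg : ∀ u ∈ c • Ax j, (c * t * c⁻¹) • u = u := fun u hu =>
      D.toRt.TT_fix (Subgroup.subset_closure ⟨c, j, rfl, t, ht, rfl⟩) hu
    refine hBC _ ?_ (fun u hu => hfg u (hu _ ⟨c, j, rfl⟩)) b hb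
    rw [Finset.smul_sum]
    refine Finset.sum_congr rfl fun l _ => ?_
    by_cases hl : l = i
    · subst hl
      exact hfix t ht _ (D.zR l)
    · exact hfg _ (D.Uc_le (Ne.symm hl) hc (D.R_le_Uc l (D.zR l)))
  zR := D.zR
  z0 := D.z0
  bz := fun b hb i hi => fix_comp D (hBz b hb) hi
  bI := hBI

/-- **(Q)** : `B ≤ C := C_H(z₀) ∩ C_H(I)`, normalised by `C`, quadratic, ONE AXIS: every `b ∈ B` acts on `M` as an
element of `⨆ i, T i`. -/
theorem quad_main (free : ∀ i, ∀ t ∈ T i, ∀ u : M, u ∉ Ax i → t • u = u → ∀ m : M, t • m = m)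
    (one : ∀ i, OneAx (Ptt H Ax R (Cpt H Ax R i) (Uc H Ax R i)) (Vv T Ax R (Cpt H Ax R i) (Uc H Ax R i)))
    {B : Subgroup H} (hBz : ∀ b ∈ B, b • ∑ i, z i = ∑ i, z i) (hBI : ∀ b ∈ B, ∀ u ∈ Ic H Ax, b • u = u)
    (hBC : ∀ h : H, h • ∑ i, z i = ∑ i, z i → (∀ u ∈ Ic H Ax, h • u = u) → ∀ b ∈ B, h * b * h⁻¹ ∈ B)
    (quad : ∀ b ∈ B, ∀ b' ∈ B, ∀ m : M, b • (b' • m + m) = b' • m + m) {b : H} (hb : b ∈ B) :
    ∃ v ∈ ⨆ i, T i, ∀ m : M, b • m = v • m :=
  (qk_of D free one hBz hBI hBC quad).main hb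

end fv

end Cfsg.Agent.Omega.NOThreeL.RSplit.QuadFv

end

section


/-!
# NO-3L, box R, `q > 2`, split (#19602 (7)): END, the module level over 683's `Fv`

`D : Fv T Ax R z Z` : `M = (⊕ U_i) ⊕ I`, `U_i = Uc i`, `z₀ = ∑ z i`.

* `exists_perm` : `H` permutes the components; `smul_R` : `x z₀ ∈ ∑ R_i` implies that `x` permutes the `R_i`;
* `Dc i` : the sum of the other components; `indep`, `inter`;
* `exists_sep` : ONE AXIS, `u ∈ U_i ∩ Ax i`, `u ∉ R i` : some `x ∈ C_H(z₀) ∩ C_H(I)` with `x u - u ∈ U_i - R i`;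
* `mem_of_many` : MANY AXES.
-/

set_option autoImplicit false
set_option linter.unusedSectionVars false

namespace Cfsg.Agent.Omega.NOThreeL.RSplit.EndFv

open scoped Pointwise
open Cfsg.Agent.Omega.NOThreeL.ThmAx (Full IsAx TT YY Adj mem_smul smul_eq_of YY_smul YY_smul_eq adj_smul IsAx.smul)
open Cfsg.Agent.Omega.NOThreeL.RSplit.Root (Rt Ex)
open Cfsg.Agent.Omega.NOThreeL.RSplit.Hull (Comp hull mem_of_fix)
open Cfsg.Agent.Omega.NOThreeL.RSplit.FrameOf
open Cfsg.Agent.Omega.NOThreeL.RSplit.ManyAx (Many eq_of_sub many_or mem_of_mem_axes)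
open Cfsg.Agent.Omega.NOThreeL.RSplit.QuadFv
open Cfsg.Agent.Omega.NOThreeL.RSplit.Five
open Cfsg.Agent.Omega.NOThreeL.RBig.Pts (OneAx Mv Frame)
open Cfsg.Agent.Omega.NOThreeL.RBig.Trans (AxSys Cp NC UC NN)
open Cfsg.Agent.Omega.NOThreeL.RSplit.TransRt (Axs)

variable {H M : Type*} [Group H] [AddCommGroup M] [DistribMulAction H M]
variable {ι : Type*}

theorem exists_sum [Fintype ι] {B : ι → AddSubgroup M} {m : M} (hm : m ∈ ⨆ i, B i) :
    ∃ f : ι → M, (∀ i, f i ∈ B i) ∧ m = ∑ i, f i := by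
  classical
  let X : AddSubgroup M :=
    { carrier := {y | ∃ f : ι → M, (∀ i, f i ∈ B i) ∧ y = ∑ i, f i}
      zero_mem' := ⟨fun _ => 0, fun _ => zero_mem _, by simp⟩
      add_mem' := by
        rintro _ _ ⟨f, hf, rfl⟩ ⟨f', hf', rfl⟩
        exact ⟨fun i => f i + f' i, fun i => add_mem (hf i) (hf' i), Finset.sum_add_distrib.symm⟩
      neg_mem' := by
        rintro _ ⟨f, hf, rfl⟩
        exact ⟨fun i => - f i, fun i => neg_mem (hf i), (Finset.sum_neg_distrib _).symm⟩ }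
  have hX : (⨆ i, B i) ≤ X := iSup_le fun i m hm => by
    refine ⟨fun j => if j = i then m else 0, fun j => ?_, ?_⟩
    · by_cases h : j = i
      · subst h
        simpa using hm
      · simp only [if_neg h]
        exact zero_mem _
    · rw [Finset.sum_ite_eq' Finset.univ i (fun _ => m), if_pos (Finset.mem_univ i)]
  exact hX hm

theorem sum_mem_iSup [Fintype ι] {B : ι → AddSubgroup M} {f : ι → M} (hf : ∀ i, f i ∈ B i) :
    ∑ i, f i ∈ ⨆ i, B i :=
  sum_mem fun i _ => AddSubgroup.mem_iSup_of_mem i (hf i)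

section

variable [Fintype ι] [Finite H] [Finite M] {T : ι → Subgroup H} {Ax R : ι → AddSubgroup M} {z : ι → M} {Z : Set M}
  (D : Fv T Ax R z Z)
include D

theorem uniq {f f' : ι → M} (hf : ∀ i, f i ∈ Uc H Ax R i) (hf' : ∀ i, f' i ∈ Uc H Ax R i)
    (h : ∑ i, f i = ∑ i, f' i) (i : ι) : f i = f' i := by
  have h1 := (D.uniq (f := fun i => f i - f' i) (fun i => sub_mem (hf i) (hf' i)) (w := 0) (zero_mem _) (by
    rw [Finset.sum_sub_distrib, h, sub_self, add_zero])).1 i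
  exact sub_eq_zero.1 h1

/-- `H` permutes the components. -/
theorem exists_perm (x : H) : ∃ σ : Equiv.Perm ι, ∀ i, x • Uc H Ax R i = Uc H Ax R (σ i) ∧
    ∀ g, g ∈ Cpt H Ax R (σ i) ↔ x⁻¹ • g ∈ Cpt H Ax R i := by
  choose σ hσ using smul_cpt D x
  have hinj : Function.Injective σ := by
    intro i j hij
    refine uc_inj D ?_
    have h1 := (hσ i).1
    rw [hij, ← (hσ j).1] at h1
    exact smul_left_cancel x h1
  exact ⟨Equiv.ofBijective σ (Finite.injective_iff_bijective.1 hinj), hσ⟩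

/-- the components of `x • ∑ f i` -/
theorem smul_sum {x : H} {σ : Equiv.Perm ι} (hσ : ∀ i, x • Uc H Ax R i = Uc H Ax R (σ i)) {f : ι → M}
    (hf : ∀ i, f i ∈ Uc H Ax R i) : x • ∑ i, f i = ∑ i, x • f (σ.symm i) ∧
      ∀ i, x • f (σ.symm i) ∈ Uc H Ax R i := by
  constructor
  · rw [Finset.smul_sum]
    exact (Equiv.sum_comp σ.symm (fun i => x • f i)).symm
  · intro i
    have h1 := hσ (σ.symm i)
    rw [Equiv.apply_symm_apply] at h1
    rw [← h1]
    exact AddSubgroup.smul_mem_pointwise_smul _ _ _ (hf _)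

theorem zU (i : ι) : z i ∈ Uc H Ax R i := D.R_le_Uc i (D.zR i)

/-- `x • z₀ ∈ ∑ R_i` implies that `x` permutes the `R_i`. -/
theorem smul_R {x : H} (hx : x • ∑ i, z i ∈ ⨆ i, R i) (i : ι) : ∃ j, x • R i = R j := by
  obtain ⟨σ, hσ⟩ := exists_perm D x
  obtain ⟨h1, h2⟩ := smul_sum D (fun i => (hσ i).1) (zU D)
  obtain ⟨f, hf, h3⟩ := exists_sum hx
  rw [h1] at h3
  have h4 := uniq D h2 (fun i => D.R_le_Uc i (hf i)) h3 (σ i)
  rw [Equiv.symm_apply_apply] at h4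
  refine ⟨σ i, ?_⟩
  have h5 : x • Ax i ∈ Cpt H Ax R (σ i) := by
    rw [(hσ i).2, inv_smul_smul]
    exact Fv.self_mem i
  have h6 : (1 : H) • Ax (σ i) ∈ Cpt H Ax R (σ i) := by
    rw [one_smul]
    exact Fv.self_mem _
  have h7 := (D.comp (σ i)).root_eq h5 h6 (x := x • z i) (AddSubgroup.smul_mem_pointwise_smul _ _ _ (D.zR i))
    (by rw [one_smul, h4]; exact hf _) (fun h => D.z0 i ((smul_eq_zero_iff_eq x).1 h))
  rwa [one_smul] at h7

theorem smul_iSup_R {x : H} (hx : x • ∑ i, z i ∈ ⨆ i, R i) {m : M} (hm : m ∈ ⨆ i, R i) : x • m ∈ ⨆ i, R i := by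
  obtain ⟨f, hf, rfl⟩ := exists_sum hm
  rw [Finset.smul_sum]
  refine sum_mem fun i _ => ?_
  obtain ⟨j, hj⟩ := smul_R D hx i
  refine AddSubgroup.mem_iSup_of_mem j ?_
  rw [← hj]
  exact AddSubgroup.smul_mem_pointwise_smul _ _ _ (hf i)

theorem smul_iSup_Uc (x : H) {m : M} (hm : m ∈ ⨆ i, Uc H Ax R i) : x • m ∈ ⨆ i, Uc H Ax R i := by
  obtain ⟨f, hf, rfl⟩ := exists_sum hm
  rw [Finset.smul_sum]
  refine sum_mem fun i _ => ?_
  obtain ⟨j, hj⟩ := D.smul_Uc x i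
  refine AddSubgroup.mem_iSup_of_mem j ?_
  rw [← hj]
  exact AddSubgroup.smul_mem_pointwise_smul _ _ _ (hf i)

/-- `s` maps `Ax i` to `Ax j`: it maps `U_i` to `U_j`. -/
theorem smul_Uc_of {s : H} {i j : ι} (hs : s • Ax i = Ax j) : s • Uc H Ax R i = Uc H Ax R j := by
  obtain ⟨l, h1, h2⟩ := smul_cpt D s i
  have hlj : l = j := by
    refine eq_of_mem_Cpt D.toEx ((h2 _).2 ?_)
    rw [← hs, inv_smul_smul]
    exact Fv.self_mem i
  rw [h1, hlj]

end

/-! ### The sum of the other components -/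

section

variable (H) in
/-- the sum of the other components -/
def Dc [Fintype ι] (Ax R : ι → AddSubgroup M) (i : ι) : AddSubgroup M where
  carrier := {m | ∃ f : ι → M, (∀ j, f j ∈ Uc H Ax R j) ∧ f i = 0 ∧ m = ∑ j, f j}
  zero_mem' := ⟨fun _ => 0, fun _ => zero_mem _, rfl, by simp⟩
  add_mem' := by
    rintro _ _ ⟨f, hf, h0, rfl⟩ ⟨f', hf', h0', rfl⟩
    exact ⟨fun i => f i + f' i, fun i => add_mem (hf i) (hf' i), by simp only [h0, h0', add_zero],
      Finset.sum_add_distrib.symm⟩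
  neg_mem' := by
    rintro _ ⟨f, hf, h0, rfl⟩
    exact ⟨fun i => - f i, fun i => neg_mem (hf i), by simp only [h0, neg_zero], (Finset.sum_neg_distrib _).symm⟩

variable [Fintype ι] [Finite H] [Finite M] {T : ι → Subgroup H} {Ax R : ι → AddSubgroup M} {z : ι → M} {Z : Set M}

omit [Finite H] [Finite M] in
theorem Uc_le_Dc {i j : ι} (hij : j ≠ i) : Uc H Ax R j ≤ Dc H Ax R i := by
  classical
  intro m hm
  refine ⟨fun l => if l = j then m else 0, fun l => ?_, by simp [hij.symm], ?_⟩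
  · by_cases h : l = j
    · subst h
      simpa using hm
    · simp only [if_neg h]
      exact zero_mem _
  · rw [Finset.sum_ite_eq' Finset.univ j (fun _ => m), if_pos (Finset.mem_univ j)]

omit [Finite H] [Finite M] in
theorem mem_Dc_sup {i : ι} {f : ι → M} (hf : ∀ j, f j ∈ Uc H Ax R j) (h : f i ∈ R i) :
    ∑ j, f j ∈ Dc H Ax R i ⊔ R i := by
  classical
  rw [← Finset.add_sum_erase Finset.univ f (Finset.mem_univ i), add_comm]
  refine AddSubgroup.add_mem_sup (sum_mem fun j hj => ?_) h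
  exact Uc_le_Dc (Finset.ne_of_mem_erase hj) (hf j)

variable (D : Fv T Ax R z Z)
include D

theorem of_mem_Dc_sup {i : ι} {f : ι → M} (hf : ∀ j, f j ∈ Uc H Ax R j) (h : ∑ j, f j ∈ Dc H Ax R i ⊔ R i) :
    f i ∈ R i := by
  classical
  obtain ⟨_, ⟨f', hf', h0, rfl⟩, r, hr, h1⟩ := AddSubgroup.mem_sup.1 h
  have h2 := uniq D hf (f' := fun j => f' j + if j = i then r else 0) (fun j => add_mem (hf' j) (by
    by_cases hj : j = i
    · subst hj
      simpa using D.R_le_Uc j hr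
    · simp only [if_neg hj]
      exact zero_mem _)) (by
    rw [Finset.sum_add_distrib, Finset.sum_ite_eq' Finset.univ i (fun _ => r), if_pos (Finset.mem_univ i), h1]) i
  rw [h2]
  simpa [h0] using hr

theorem of_mem_Dc {i : ι} {f : ι → M} (hf : ∀ j, f j ∈ Uc H Ax R j) (h : ∑ j, f j ∈ Dc H Ax R i) : f i = 0 := by
  obtain ⟨f', hf', h0, h1⟩ := h
  rw [uniq D hf hf' h1 i, h0]

/-- `indep` -/
theorem indep {i : ι} {m : M} (hm : m ∈ Uc H Ax R i) (h : m ∈ Dc H Ax R i ⊔ R i) : m ∈ R i := by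
  classical
  have h1 : ∑ j, (if j = i then m else 0) = m := by
    rw [Finset.sum_ite_eq' Finset.univ i (fun _ => m), if_pos (Finset.mem_univ i)]
  have h2 := of_mem_Dc_sup D (i := i) (f := fun j => if j = i then m else 0) (fun j => by
    by_cases hj : j = i
    · subst hj
      simpa using hm
    · simp only [if_neg hj]
      exact zero_mem _) (by rw [h1]; exact h)
  simpa using h2

/-- `inter` -/
theorem inter {m : M} (hm : m ∈ ⨆ i, Uc H Ax R i) (h : ∀ i, m ∈ Dc H Ax R i ⊔ R i) : m ∈ ⨆ i, R i := by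
  obtain ⟨f, hf, rfl⟩ := exists_sum hm
  exact sum_mem_iSup fun i => of_mem_Dc_sup D hf (h i)

theorem iSup_R_le (i : ι) : (⨆ j, R j) ≤ Dc H Ax R i ⊔ R i := by
  refine iSup_le fun j => ?_
  by_cases hj : j = i
  · subst hj
    exact le_sup_right
  · exact ((D.R_le_Uc j).trans (Uc_le_Dc hj)).trans le_sup_left

theorem iSup_R_le_Uc : (⨆ j, R j) ≤ ⨆ i, Uc H Ax R i :=
  iSup_mono fun j => D.R_le_Uc j

end

/-! ### ONE AXIS -/

section

variable [Fintype ι] [Finite H] [Finite M] {T : ι → Subgroup H} {Ax R : ι → AddSubgroup M} {z : ι → M} {Z : Set M}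
  (D : Fv T Ax R z Z)
include D

/-- some `u ∈ U_i` is not in `Ax i` -/
theorem exists_not_mem (i : ι) : ∃ u ∈ Uc H Ax R i, u ∉ Ax i := by
  by_contra hcon
  push Not at hcon
  have hR : ∀ j, R j ≠ ⊥ := fun j => (D.comp j).rne j
  -- `Ax i = M`
  have h1 : ∀ m : M, m ∈ Ax i := by
    intro m
    obtain ⟨f, hf, w, hw, rfl⟩ := D.dec m
    refine add_mem (sum_mem fun j _ => ?_) (hw _ (Rt.isAx Ax i))
    by_cases hj : j = i
    · subst hj
      exact hcon _ (hf j)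
    · exact D.Uc_le (Ne.symm hj) (Fv.self_mem i) (hf j)
  obtain ⟨g, hg, hne⟩ := (D.comp i).sep (z i) (zU D i) (D.z0 i)
  obtain ⟨c, j, rfl⟩ := D.axSys.mem_A hg
  -- `Ax j = M` for all `j`
  obtain ⟨y, hy⟩ := D.trans i j
  apply hne
  rw [mem_smul, ← hy, mem_smul]
  exact h1 _

/-- ONE AXIS: separation. -/
theorem exists_sep (free : ∀ i, ∀ t ∈ T i, ∀ u : M, u ∉ Ax i → t • u = u → ∀ m : M, t • m = m) {i : ι}
    (one : OneAx (Ptt H Ax R (Cpt H Ax R i) (Uc H Ax R i)) (Vv T Ax R (Cpt H Ax R i) (Uc H Ax R i)))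
    {u : M} (hu : u ∈ Uc H Ax R i) (huA : u ∈ Ax i) (huR : u ∉ R i) :
    ∃ x : H, (∀ j, j ≠ i → ∀ v ∈ Uc H Ax R j, x • v = v) ∧ (∀ w ∈ Ic H Ax, x • w = w) ∧ (∀ r ∈ R i, x • r = r) ∧
      x • u - u ∈ Uc H Ax R i ∧ x • u - u ∉ R i := by
  have F := frame (D.comp i) ⟨_, Fv.self_mem i⟩ rfl free
  have hi1 : (1 : H) • Ax i ∈ Cpt H Ax R i := by
    rw [one_smul]
    exact Fv.self_mem i
  set e : AddSubgroup ↥(Uc H Ax R i) := ((1 : H) • R i).addSubgroupOf (Uc H Ax R i) with hedef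
  have he : e ∈ Ptt H Ax R (Cpt H Ax R i) (Uc H Ax R i) := ⟨1, i, hi1, rfl⟩
  -- `VV e` fixes `u`
  have hfix : ∀ v ∈ Vv T Ax R (Cpt H Ax R i) (Uc H Ax R i) e, v • (⟨u, hu⟩ : ↥(Uc H Ax R i)) = ⟨u, hu⟩ := by
    rcases F.dich one he ⟨u, hu⟩ with h1 | h1
    · exact h1
    · exfalso
      obtain ⟨w, hw, hwA⟩ := exists_not_mem D i
      have h0 : z i ≠ 0 := D.z0 i
      obtain ⟨t, ht, htw⟩ := D.full i w hwA _ (D.zR i)
      have h3 : (1 : H) * t * (1 : H)⁻¹ ∈ St H (Cpt H Ax R i) (Uc H Ax R i) :=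
        st_of_mem (D.comp i) (gen_mem (N := Nc T Ax R i) le_rfl hi1 ht)
      have h4 := h1.2 (act _ _ ⟨_, h3⟩) (Subgroup.subset_closure ⟨⟨_, h3⟩, 1, i, hi1, rfl, t, ht, rfl, rfl⟩) (by
        apply Subtype.ext
        rw [act_smul]
        change ((1 : H) * t * (1 : H)⁻¹) • u = u
        rw [one_mul, inv_one, mul_one]
        exact D.fix i t ht u huA)
      have h5 : act (Cpt H Ax R i) (Uc H Ax R i) ⟨_, h3⟩ • (⟨w, hw⟩ : ↥(Uc H Ax R i)) = ⟨w, hw⟩ := by
        rw [h4, one_smul]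
      have h6 := congrArg Subtype.val h5
      rw [act_smul] at h6
      change ((1 : H) * t * (1 : H)⁻¹) • w = w at h6
      rw [one_mul, inv_one, mul_one, htw] at h6
      exact h0 (left_eq_add.1 h6.symm)
  obtain ⟨p, hp, hpe, v, hv, hvu⟩ : ∃ p ∈ Ptt H Ax R (Cpt H Ax R i) (Uc H Ax R i),
      ¬ Mv (Vv T Ax R (Cpt H Ax R i) (Uc H Ax R i)) p e ∧
        ∃ v ∈ Vv T Ax R (Cpt H Ax R i) (Uc H Ax R i) p, v • (⟨u, hu⟩ : ↥(Uc H Ax R i)) ≠ ⟨u, hu⟩ := by
    by_contra hcon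
    push Not at hcon
    have h1 := F.inter one he hcon
    apply huR
    have h2 : u ∈ (1 : H) • R i := h1
    rwa [one_smul] at h2
  have hpne : p ≠ e := by
    rintro rfl
    exact hvu (hfix v hv)
  -- a generator
  obtain ⟨a, ha, hau⟩ : ∃ a ∈ Gn T Ax R (Cpt H Ax R i) (Uc H Ax R i) p, a • (⟨u, hu⟩ : ↥(Uc H Ax R i)) ≠ ⟨u, hu⟩ := by
    by_contra hcon
    push Not at hcon
    refine hvu (Subgroup.closure_induction (p := fun v _ => v • (⟨u, hu⟩ : ↥(Uc H Ax R i)) = ⟨u, hu⟩) hcon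
      (one_smul _ _) (fun a b _ _ ha hb => by rw [mul_smul, hb, ha])
      (fun a _ ha => by rw [inv_smul_eq_iff, ha]) hv)
  have haV : a ∈ Vv T Ax R (Cpt H Ax R i) (Uc H Ax R i) p := Subgroup.subset_closure ha
  have hap : a • (⟨u, hu⟩ : ↥(Uc H Ax R i)) - ⟨u, hu⟩ ∈ p := (vv_spec (D.comp i) haV).2 _
  obtain ⟨x, c, l, hc, hcp, t, ht, hx, rfl⟩ := ha
  have hTT : (x : H) ∈ TT T Ax (c • Ax l) := Subgroup.subset_closure ⟨c, l, rfl, t, ht, hx⟩
  obtain ⟨h1, h2⟩ := D.hfix i _ hc _ hTT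
  refine ⟨x, h1, h2, fun r hr => ?_, sub_mem (x.2.2.1 u hu) hu, fun hR => ?_⟩
  · have hre : (⟨r, D.R_le_Uc i hr⟩ : ↥(Uc H Ax R i)) ∈ e := by
      change r ∈ (1 : H) • R i
      rwa [one_smul]
    have h3 := RBig.Pts.not_mv hpe haV hre
    exact congrArg Subtype.val h3
  · have h3 : act (Cpt H Ax R i) (Uc H Ax R i) x • (⟨u, hu⟩ : ↥(Uc H Ax R i)) - ⟨u, hu⟩ ∈ e := by
      change (x : H) • u - u ∈ (1 : H) • R i
      rwa [one_smul]
    have h4 := F.disjoint one hp he hpne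
    have h5 : act (Cpt H Ax R i) (Uc H Ax R i) x • (⟨u, hu⟩ : ↥(Uc H Ax R i)) - ⟨u, hu⟩ ∈ p ⊓ e := ⟨hap, h3⟩
    rw [h4, AddSubgroup.mem_bot, sub_eq_zero] at h5
    exact hau h5

/-! ### MANY AXES -/

/-- `N_j`, `j ≠ i`, fixes the axes of `c_i`. -/
theorem Nc_smul {i j : ι} (hij : j ≠ i) {n : H} (hn : n ∈ Nc T Ax R j) {g : AddSubgroup M} (hg : g ∈ Cpt H Ax R i) :
    n • g = g := by
  have h1 : Nc T Ax R j ≤ MulAction.stabilizer H g := by
    refine iSup₂_le fun g' hg' t ht => ?_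
    rw [MulAction.mem_stabilizer_iff]
    refine D.axSys.smul_eq (D.axSys.mem_A hg') ?_ ht
    refine D.axSys.le_of_not_mem (D.axSys.mem_A hg') (D.axSys.mem_A hg) ?_
    rw [D.Cpt_eq hg']
    exact D.not_mem hij.symm hg
  exact MulAction.mem_stabilizer_iff.1 (h1 hn)

/-- 602's REPAIR 1: an axis over `R i` is of the form `k • Ax l` with `k` permuting the `R_j`. -/
theorem exists_norm {c : H} {i l : ι} (hc : c • Ax l ∈ Cpt H Ax R i) (hR : c • R l = R i) :
    ∃ k : H, k • Ax l = c • Ax l ∧ k • ∑ j, z j ∈ ⨆ j, R j := by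
  classical
  obtain ⟨σ, hσ⟩ := exists_perm D c
  obtain ⟨h1, h2⟩ := smul_sum D (fun i => (hσ i).1) (zU D)
  have hil : σ l = i := by
    refine eq_of_mem_Cpt D.toEx (j := i) ?_
    have h3 : c • Ax l ∈ Cpt H Ax R (σ l) := by
      rw [(hσ l).2, inv_smul_smul]
      exact Fv.self_mem l
    by_contra hne
    have : σ l ≠ i := by
      rintro rfl
      exact hne (Fv.self_mem _)
    exact D.not_mem this h3 hc
  have hli : σ.symm i = l := by rw [← hil, Equiv.symm_apply_apply]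
  have hne0 : ∀ j, c • z (σ.symm j) ≠ 0 := fun j h => D.z0 _ ((smul_eq_zero_iff_eq c).1 h)
  have key : ∀ s : Finset ι, i ∉ s → ∃ n : H, (∀ g ∈ Cpt H Ax R i, n • g = g) ∧
      n • (c • ∑ j, z j) = ∑ j, if j ∈ s then z j else c • z (σ.symm j) := by
    intro s
    induction s using Finset.induction_on with
    | empty => exact fun _ => ⟨1, fun g _ => one_smul _ _, by rw [one_smul, h1]; simp⟩
    | insert j s hj ih =>
      intro his
      rw [Finset.mem_insert, not_or] at his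
      obtain ⟨n, hn, e⟩ := ih his.2
      obtain ⟨m, hm, hmj⟩ := (D.comp j).tr (c • z (σ.symm j)) (h2 j) (hne0 j) (z j) (zU D j) (D.z0 j)
      refine ⟨m * n, fun g hg => by rw [mul_smul, hn g hg, Nc_smul D (Ne.symm his.1) hm hg], ?_⟩
      rw [mul_smul, e, Finset.smul_sum]
      refine Finset.sum_congr rfl fun a _ => ?_
      by_cases h4 : a = j
      · subst h4
        rw [if_neg hj, if_pos (Finset.mem_insert_self _ _), hmj]
      · by_cases h5 : a ∈ s
        · rw [if_pos h5, if_pos (Finset.mem_insert_of_mem h5)]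
          exact (D.Nc_fix hm).1 a h4 _ (zU D a)
        · rw [if_neg h5, if_neg (fun h6 => h5 ((Finset.mem_insert.1 h6).resolve_left h4))]
          exact (D.Nc_fix hm).1 a h4 _ (h2 a)
  obtain ⟨n, hn, e⟩ := key (Finset.univ.erase i) (Finset.notMem_erase i _)
  refine ⟨n * c, by rw [mul_smul, hn _ hc], ?_⟩
  rw [mul_smul, e]
  refine sum_mem fun j _ => ?_
  by_cases hj : j = i
  · subst hj
    rw [if_neg (Finset.notMem_erase j _), hli]
    refine AddSubgroup.mem_iSup_of_mem j ?_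
    rw [← hR]
    exact AddSubgroup.smul_mem_pointwise_smul _ _ _ (D.zR l)
  · rw [if_pos (Finset.mem_erase.2 ⟨hj, Finset.mem_univ j⟩)]
    exact AddSubgroup.mem_iSup_of_mem j (D.zR j)

/-- **MANY AXES**: a vector of `⊕ U_i` in all the axes `k • Ax l`, `k` permuting the `R_j`, lies in `∑ R_i`. -/
theorem mem_of_many (free : ∀ i, ∀ t ∈ T i, ∀ u : M, u ∉ Ax i → t • u = u → ∀ m : M, t • m = m)
    (many : ∀ i, Many T Ax R (Cpt H Ax R i) (Uc H Ax R i)) {m : M} (hm : m ∈ ⨆ i, Uc H Ax R i)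
    (h : ∀ k : H, k • ∑ j, z j ∈ ⨆ j, R j → ∀ l, m ∈ k • Ax l) : m ∈ ⨆ i, R i := by
  classical
  obtain ⟨f, hf, rfl⟩ := exists_sum hm
  refine sum_mem_iSup fun i => ?_
  have hi1 : (1 : H) • Ax i ∈ Cpt H Ax R i := by
    rw [one_smul]
    exact Fv.self_mem i
  have h1 := mem_of_mem_axes (D.comp i) rfl free (many i) hi1 (hf i) (fun c l hc hcR => by
    rw [one_smul] at hcR
    obtain ⟨k, hk, hk'⟩ := exists_norm D hc hcR
    have h2 := h k hk' l
    rw [hk, ← Finset.add_sum_erase Finset.univ f (Finset.mem_univ i)] at h2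
    refine ((c • Ax l).add_mem_cancel_right (sum_mem fun j hj => ?_)).1 h2
    exact D.Uc_le (Finset.ne_of_mem_erase hj).symm hc (hf j))
  rwa [one_smul] at h1

end

end Cfsg.Agent.Omega.NOThreeL.RSplit.EndFv

end
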