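import Cfsg.Agent.Mrg.Omega.NOThreeL.RSplit.Three
import Cfsg.Agent.Mrg.Omega.NOThreeL.RTwo
import Cfsg.Agent.Mrg.Omega.NOThreeL.RBig.BigZ
import Cfsg.Agent.Mrg.Omega.NOThreeL.RSplit.FrameOf
import Cfsg.Agent.Mrg.Omega.NOThreeL.AOne

section


/-!
# NO-3L, box R ∩ (A), `q > 2`, `V_P` split (#19602, helper797): (5), (6) at group level

`h : Hyp M V₀`, `E : MinA S P H`; `Z = zc S`, `Z₀ = Z ∩ V₀`, `F_H = C_Z(H)`, `E = C_Z(P)`.

* `Hyp.le_o2_cent` (#) : `z ∈ Z - F_H` implies `V ≤ O₂(C_H(z))`;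
* `Hyp.fv` : the instance of `Five.Fv` for every `1 ≠ z₀ ∈ Z₀`;
* **`Hyp.zdec`** (5) : `Z ≤ Z₀ F_H`; `Hyp.mem_Ic_iff` : `C_U(N) = F_H`; `Hyp.EF` : `C_Z(P) ∩ C_Z(H) = 1`;
* **`Hyp.card_Z0`** (6) : `|Z₀| = 2` unless `D = C_Z(P) = 1`;
* `Hyp.exists_ef` : then `Z = ⟨e, f⟩`, `D = ⟨e⟩`, `F_H = ⟨f⟩`, `Z₀ = ⟨e f⟩`; `Hyp.cent_z0` : `C_H(z₀) = C_G(Z)`.
-/

set_option autoImplicit false
set_option linter.unusedSectionVars false

namespace Cfsg.Agent.Omega.NOThreeL.RSplit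

open Subgroup Cfsg Cfsg.Agent.Omega.MinPar
open Cfsg.Agent.ZN (zc zl o2)
open Cfsg.Agent.Omega.Frame Cfsg.Agent.Omega.FrameNOFF
open Cfsg.Agent.Omega.Node.NO3L Cfsg.Agent.Omega.NOThreeL.Basic
open Cfsg.Agent.Omega.NoFF.Basic (conj_conj mem_conj conj_le_iff conj_le_centralizer comm_symm comm_mono)
open Cfsg.Agent.Omega.NOThreeL.Pair (conj_eq_of_mem conj_le_normalizer zl_abel)
open Cfsg.Agent.MinSimple.VModule (zl_le zc_le_zl le_normalizer_zl zc_le o2_isPGroup le_normalizer_o2 le_o2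
  normalizer_le_normalizer_zc mem_zc)
open Cfsg.Agent.Omega.NOThreeL.RTools (NN isLong)
open Cfsg.Agent.Omega.FFThm (Off NatK ActsSL)
open Cfsg.Agent.Omega.NOThreeL.ThmAx (Full IsAx TT YY mem_smul IsAx.smul YY_smul_eq)
open Cfsg.Agent.Omega.NOThreeL.RSplit.TransRt (Axs)
open Cfsg.Agent.Omega.NOThreeL.RSplit.Five (Cpt Nc Uc Ic Fv)
open scoped Pointwise

universe u

variable {G : Type u} [Group G] {F : Type} [Field F] {k : ℕ}

namespace Hyp

variable [Finite G] {S : Sylow 2 G} {P H D V₀ : Subgroup G}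
variable {M : NatK F (S : Subgroup G) P (zl (S : Subgroup G) P) D k} (h : Hyp M V₀)

/-- the vectors of `Z` -/
def Zv (E : PairA (S : Subgroup G) P H) : Set (h.nrm E).Mod := {m | (h.nrm E).val m ∈ zc (S : Subgroup G)}

include h

theorem SH (E : PairA (S : Subgroup G) P H) : (S : Subgroup G) ≤ H := E.long.loc.le

/-- (#) -/
theorem le_o2_cent (E : MinA (S : Subgroup G) P H) {z : G} (hz : z ∈ zc (S : Subgroup G))
    (hzH : z ∉ centralizer (H : Set G)) :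
    zl (S : Subgroup G) P ≤ o2 (H ⊓ centralizer ({z} : Set G)) := by
  have hC : CZ (S : Subgroup G) ≤ H ⊓ centralizer ({z} : Set G) :=
    le_inf E.long.cz (centralizer_le (Set.singleton_subset_iff.2 hz))
  have hl : IsLong (S : Subgroup G) (H ⊓ centralizer ({z} : Set G)) :=
    ⟨E.long.loc.of_le S ((le_CZ S).trans hC) inf_le_left, hC⟩
  refine le_o2_of_comm (h.data.low P h.par) hl (E.min _ hl inf_le_left fun he => hzH ?_)
  rw [mem_centralizer_iff]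
  intro x hx
  have h1 : x ∈ H ⊓ centralizer ({z} : Set G) := by rw [he]; exact hx
  exact (mem_centralizer_iff.1 h1.2 z rfl).symm

/-- `E ∩ F = 1` -/
theorem EF (E : PairA (S : Subgroup G) P H) {x : G} (hx : x ∈ zc (S : Subgroup G))
    (hP : x ∈ centralizer (P : Set G)) (hH : x ∈ centralizer (H : Set G)) : x = 1 := by
  by_contra h1
  have hL : IsLong (S : Subgroup G) (centralizer ({x} : Set G)) := isLong S hx h1
  have h2 : P ≤ centralizer ({x} : Set G) := fun p hp => by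
    rw [mem_centralizer_singleton_iff]
    exact mem_centralizer_iff.1 hP p hp
  have h3 : H ≤ centralizer ({x} : Set G) := fun p hp => by
    rw [mem_centralizer_singleton_iff]
    exact mem_centralizer_iff.1 hH p hp
  have h4 : zl (S : Subgroup G) P ≤ zl (S : Subgroup G) (centralizer ({x} : Set G)) :=
    zl_le (zc_le_zl _ _) (h2.trans (le_normalizer_zl _ _))
  have h5 : zl (S : Subgroup G) H ≤ zl (S : Subgroup G) (centralizer ({x} : Set G)) :=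
    zl_le (zc_le_zl _ _) (h3.trans (le_normalizer_zl _ _))
  exact E.ne (h4.trans ((zl_abel h.hc S hL.loc).1.trans (centralizer_le h5)))

/-- `Z ≤ Z₀ E` -/
theorem zE : zc (S : Subgroup G) ≤ (zc (S : Subgroup G) ⊓ V₀) ⊔ (zc (S : Subgroup G) ⊓ centralizer (P : Set G)) := by
  intro z hz
  obtain ⟨w, hw, d, hd, rfl⟩ := h.exists_mul (zc_le_zl _ _ hz)
  have hdz := h.D_le_zc hd
  have hwz : w ∈ zc (S : Subgroup G) := by
    have := mul_mem hz (inv_mem hdz)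
    rwa [mul_inv_cancel_right] at this
  exact mul_mem (mem_sup_left ⟨hwz, hw⟩) (mem_sup_right ⟨hdz, h.D_le_cent hd⟩)

/-- `C_Z(P) = D` -/
theorem cent_P : zc (S : Subgroup G) ⊓ centralizer (P : Set G) = D := by
  refine le_antisymm ?_ (le_inf h.D_le_zc h.D_le_cent)
  intro z hz
  obtain ⟨w, hw, d, hd, rfl⟩ := h.exists_mul (zc_le_zl _ _ hz.1)
  have hwP : w ∈ centralizer (P : Set G) := by
    have : w * d * d⁻¹ ∈ centralizer (P : Set G) := mul_mem hz.2 (inv_mem (h.D_le_cent hd))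
    rwa [mul_inv_cancel_right] at this
  have hw1 : w = 1 := by
    refine h.inj hw (one_mem _) ?_
    rw [RStr.e_one M]
    have key : ∀ i, M.e w i 0 = 0 ∧ M.e w i 1 = 0 := by
      intro i
      obtain ⟨g, hg, hA⟩ := M.lift fun _ => Lib.SL2Mat.up 1
      have h1 := hA.1 w (h.V0V hw) i
      rw [mem_centralizer_iff.1 hwP g hg, mul_inv_cancel_right, RAOne.ap_up'] at h1
      have h2 := congrFun h1 0
      obtain ⟨g', hg', hA'⟩ := M.lift fun _ => Lib.SL2Mat.lo 1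
      have h3 := hA'.1 w (h.V0V hw) i
      rw [mem_centralizer_iff.1 hwP g' hg', mul_inv_cancel_right, RAOne.ap_lo'] at h3
      have h4 := congrFun h3 1
      simp at h2 h4
      exact ⟨h4, h2⟩
    funext i l
    fin_cases l
    · exact (key i).1
    · exact (key i).2
  rw [hw1, one_mul]
  exact hd

theorem nP : ∀ g ∈ P ⊓ normalizer ((S : Subgroup G) : Set G), ∀ x ∈ zc (S : Subgroup G) ⊓ V₀,
    g * x * g⁻¹ ∈ zc (S : Subgroup G) ⊓ V₀ := fun _ hg x hx =>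
  ⟨(mem_normalizer_iff.1 (normalizer_le_normalizer_zc _ hg.2) x).1 hx.1, h.conV0 hg.1 hx.2⟩

theorem e_ne {z : G} (hz : z ∈ zc (S : Subgroup G)) (hV : z ∈ V₀) (h1 : z ≠ 1) (i : Fin k) :
    M.e z i 0 ≠ 0 ∧ M.e z i 1 = 0 := by
  have h2 : M.e z i 1 = 0 := by
    obtain ⟨t, ht, hb⟩ := M.unip fun _ => 1
    have h3 := hb.1 z (h.V0V hV) i
    rw [(mem_zc.1 hz).2.1 t ht, mul_inv_cancel_right, RAOne.ap_up'] at h3
    have h4 := congrFun h3 0
    simpa using h4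
  have h3 : M.e z i ≠ 0 := by
    intro h4
    apply h1
    refine h.inj hV (one_mem _) ?_
    rw [RStr.e_one M]
    funext j
    obtain ⟨s, hs, h5⟩ := M.trans i j
    have h6 := (h5 z (h.V0V hV)).2 h4
    rwa [(mem_zc.1 hz).2.1 s hs, mul_inv_cancel_right] at h6
  refine ⟨fun h4 => h3 ?_, h2⟩
  funext l
  fin_cases l
  · exact h4
  · exact h2

variable [CharP F 2]

theorem fuseP : ∀ x ∈ zc (S : Subgroup G) ⊓ V₀, ∀ y ∈ zc (S : Subgroup G) ⊓ V₀, x ≠ 1 → y ≠ 1 →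
    ∃ g ∈ P, g * x * g⁻¹ = y := fun _ hx _ hy hx1 hy1 =>
  h.exists_conj hy.2 (h.e_ne hy.1 hy.2 hy1) hx.2 (h.e_ne hx.1 hx.2 hx1)

/-- vectors of `Z` in all axes are centralised by `H` -/
theorem cent_of_Ic (E : MinA (S : Subgroup G) P H) {z : G} (hz : z ∈ zc (S : Subgroup G))
    (hI : (h.nrm E.toPairA).of z (zc_le_zl _ _ hz) ∈ Ic H (h.Ax E.toPairA)) : z ∈ centralizer (H : Set G) := by
  have hA := TransRt.axSys (h.rt E.toPairA) (h.big' E.toPairA)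
  rw [mem_centralizer_iff]
  intro x hx
  obtain ⟨n, hn, c, hcc, rfl⟩ := h.exists_nc E hx
  obtain ⟨hnH, n', hn', h1⟩ := h.exists_NN E.toPairA hn
  have h2 := hA.fixed_iff.1 (fun g hg => hI g hg) n' hn'
  have h3 := Nrm.ext_iff.1 ((h1 _).trans h2)
  rw [Nrm.val_smul, Nrm.val_of] at h3
  have h4 : n * z = z * n := mul_inv_eq_iff_eq_mul.1 h3
  rw [mul_assoc, ← mem_centralizer_iff.1 hcc z hz, ← mul_assoc, h4, mul_assoc]

/-- vectors centralised by `H` are in all axes -/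
theorem Ic_of_cent (E : PairA (S : Subgroup G) P H) {m : (h.nrm E).Mod}
    (hm : (h.nrm E).val m ∈ centralizer (H : Set G)) : m ∈ Ic H (h.Ax E) := by
  rintro _ ⟨x, i, rfl⟩
  rw [Nrm.smul_ad, Nrm.mem_ad, mem_conj]
  have h1 : (x : G)⁻¹ * (h.nrm E).val m * x = (h.nrm E).val m := by
    rw [mul_assoc, ← mem_centralizer_iff.1 hm x x.2, inv_mul_cancel_left]
  rw [h1, mem_centralizer_iff]
  exact fun v hv => mem_centralizer_iff.1 hm v (h.VH E hv.2.1)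

/-- `U` is generated by the conjugates of `Z` -/
theorem gen (E : PairA (S : Subgroup G) P H) :
    AddSubgroup.closure {m : (h.nrm E).Mod | ∃ (x : H), ∃ u ∈ h.Zv E, m = x • u} = ⊤ := by
  set X := AddSubgroup.closure {m : (h.nrm E).Mod | ∃ (x : H), ∃ u ∈ h.Zv E, m = x • u} with hX
  have hXs : ∀ (x : H), ∀ m ∈ X, x • m ∈ X := by
    intro x m hm
    induction hm using AddSubgroup.closure_induction with
    | mem m hm =>
      obtain ⟨y, u, hu, rfl⟩ := hm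
      exact AddSubgroup.subset_closure ⟨x * y, u, hu, (mul_smul _ _ _).symm⟩
    | zero => rw [smul_zero]; exact zero_mem _
    | add a b _ _ ha hb => rw [smul_add]; exact add_mem ha hb
    | neg a _ ha => rw [smul_neg]; exact neg_mem ha
  let X' : Subgroup G :=
    { carrier := {x | ∃ hx : x ∈ zl (S : Subgroup G) H, (h.nrm E).of x hx ∈ X}
      one_mem' := ⟨one_mem _, X.zero_mem⟩
      mul_mem' := by
        rintro a b ⟨ha, ha'⟩ ⟨hb, hb'⟩
        exact ⟨mul_mem ha hb, X.add_mem ha' hb'⟩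
      inv_mem' := by
        rintro a ⟨ha, ha'⟩
        exact ⟨inv_mem ha, X.neg_mem ha'⟩ }
  have h1 : zl (S : Subgroup G) H ≤ X' := by
    refine zl_le (fun z hz => ⟨zc_le_zl _ _ hz, AddSubgroup.subset_closure ⟨1, _, hz, (one_smul _ _).symm⟩⟩) ?_
    have key : ∀ g ∈ H, ∀ x ∈ X', g * x * g⁻¹ ∈ X' := by
      rintro g hg x ⟨hx, hx'⟩
      exact ⟨(mem_normalizer_iff.1 (le_normalizer_zl _ _ hg) x).1 hx, hXs ⟨g, hg⟩ _ hx'⟩
    intro g hg
    rw [mem_normalizer_iff]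
    refine fun x => ⟨key g hg x, fun hx => ?_⟩
    have := key g⁻¹ (inv_mem hg) _ hx
    have e : g⁻¹ * (g * x * g⁻¹) * g⁻¹⁻¹ = x := by group
    rwa [e] at this
  rw [eq_top_iff]
  intro m _
  obtain ⟨_, h2⟩ := h1 (Nrm.val_mem _ m)
  exact h2

/-- `V ≤ O₂(C_H(z))` in the module -/
theorem two (E : MinA (S : Subgroup G) P H) : ∀ u ∈ h.Zv E.toPairA, u ∉ Ic H (h.Ax E.toPairA) → ∀ i,
    ∀ a ∈ TH M V₀ H i, ∀ b : H, b • u = u → (∀ m : (h.nrm E.toPairA).Mod, b • b • m = m) →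
      ∃ n : ℕ, ∀ m : (h.nrm E.toPairA).Mod, ((b * a) ^ (2 ^ n)) • m = m := by
  intro u hu huI i a ha b hbu hbb
  set z : G := (h.nrm E.toPairA).val u with hz
  have hzH : z ∉ centralizer (H : Set G) := fun h1 => huI (h.Ic_of_cent E.toPairA h1)
  have h1 := h.le_o2_cent E hu hzH
  set K : Subgroup G := H ⊓ centralizer ({z} : Set G) with hK
  have hbK : (b : G) ∈ K := by
    refine mem_inf.2 ⟨b.2, mem_centralizer_singleton_iff.2 ?_⟩
    have h2 := Nrm.ext_iff.1 hbu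
    rw [Nrm.val_smul] at h2
    exact mul_inv_eq_iff_eq_mul.1 h2
  have haO : (a : G) ∈ o2 K := h1 (mem_subgroupOf.1 ha).2.1
  -- `c = b⁻¹ a b a`
  have hcO : ((b⁻¹ * a * b * a : H) : G) ∈ o2 K := by
    refine mul_mem ?_ haO
    have h2 := (mem_normalizer_iff.1 (le_normalizer_o2 K (inv_mem hbK)) (a : G)).1 haO
    rwa [inv_inv] at h2
  obtain ⟨n, hn⟩ := (o2_isPGroup K) ⟨_, hcO⟩
  obtain ⟨c, hc⟩ : ∃ c : H, c = b⁻¹ * a * b * a := ⟨_, rfl⟩
  have hn' : c ^ (2 ^ n) = 1 := by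
    refine Subtype.ext ?_
    have h3 : ((b⁻¹ * a * b * a : H) : G) ^ (2 ^ n) = 1 := congrArg (Subtype.val : o2 K → G) hn
    rw [hc]
    exact h3
  refine ⟨n + 1, fun m => ?_⟩
  have e : (b * a) ^ (2 ^ (n + 1)) = (b * b * c) ^ (2 ^ n) := by
    rw [pow_succ', pow_mul, pow_two, hc]
    congr 1
    group
  rw [e]
  have key : ∀ (l : ℕ) (m : (h.nrm E.toPairA).Mod), ((b * b * c) ^ l) • m = (c ^ l) • m := by
    intro l
    induction l with
    | zero => intro m; rw [pow_zero, pow_zero]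
    | succ l ih =>
      intro m
      rw [pow_succ', pow_succ', mul_smul, mul_smul, ih, mul_smul c, mul_smul b b, hbb]
  rw [key, hn', one_smul]

/-- **The instance of `Five.Fv`.** -/
theorem fv (E : MinA (S : Subgroup G) P H) {z₀ : G} (hz : z₀ ∈ zc (S : Subgroup G)) (hV : z₀ ∈ V₀) (h1 : z₀ ≠ 1) :
    ∃ f : Fin k → (h.nrm E.toPairA).Mod, ∑ i, f i = (h.nrm E.toPairA).of z₀ (zc_le_zl _ _ hz) ∧
      Fv (TH M V₀ H) (h.Ax E.toPairA) (h.R E.toPairA) f (h.Zv E.toPairA) := by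
  have hEx := h.ex E.toPairA
  have hfull := h.full_of E.toPairA hV (zc_le_zl _ _ hz) (h.e_z0 E.toPairA hV hz h1)
  have hfull' := hfull
  obtain ⟨f, hf, he⟩ := hfull
  have hsit : ∀ z, ∀ hz : z ∈ zc (S : Subgroup G),
      (h.nrm E.toPairA).of z (zc_le_zl _ _ hz) ∉ Ic H (h.Ax E.toPairA) →
      RBig.Trans.Sit (Axs H (h.Ax E.toPairA)) (TT (TH M V₀ H) (h.Ax E.toPairA)) (YY H (h.Ax E.toPairA) (h.R E.toPairA))
        ((h.nrm E.toPairA).of z (zc_le_zl _ _ hz)) := by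
    intro z hz hI
    refine h.sit E hz ?_
    by_contra hcon
    push Not at hcon
    apply hI
    rintro _ ⟨x, i, rfl⟩
    exact hcon x i
  refine ⟨f, he.symm, { toEx := hEx, zR := fun i => (hf i).1, z0 := fun i => (hf i).2, sit := ?_, one := ?_, gen := ?_, two := ?_ }⟩
  · rw [← he]
    refine hsit z₀ hz fun hI => ?_
    obtain ⟨g, hg, hi⟩ := hEx.nt ⟨0, h.kpos⟩
    exact hi (hEx.six hg hfull' (hI g hg) _)
  · intro u hu
    by_cases hI : u ∈ Ic H (h.Ax E.toPairA)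
    · exact Or.inl hI
    · exact Or.inr (hsit _ hu hI)
  · exact h.gen E.toPairA
  · exact h.two E

/-- `∑ R_i` is in `V₀` -/
theorem R_le (E : PairA (S : Subgroup G) P H) : (⨆ i, h.R E i) ≤ (h.nrm E).ad V₀ :=
  iSup_le fun _ _ hm => hm.1.1

theorem smul_R (E : PairA (S : Subgroup G) P H) {s : G} (hs : s ∈ (S : Subgroup G)) (i : Fin k) :
    (⟨s, h.SH E hs⟩ : H) • h.R E i ≤ ⨆ j, h.R E j := by
  rw [Nrm.smul_ad]
  change (h.nrm E).ad (MulAut.conj s • rr M V₀ i) ≤ _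
  rw [h.conj_rr hs]
  exact le_iSup (h.R E) _

/-- the `H`-fixed part -/
theorem exists_dec (E : MinA (S : Subgroup G) P H) {z : G} (hz : z ∈ zc (S : Subgroup G)) :
    ∃ f : Fin k → (h.nrm E.toPairA).Mod, (∀ i, f i ∈ h.R E.toPairA i) ∧ ∃ y, ∃ hy : y ∈ zc (S : Subgroup G),
      y ∈ centralizer (H : Set G) ∧ (h.nrm E.toPairA).val (∑ i, f i) ∈ zc (S : Subgroup G) ⊓ V₀ ∧
        z = (h.nrm E.toPairA).val (∑ i, f i) * y ∧
        (h.nrm E.toPairA).of y (zc_le_zl _ _ hy) ∈ Ic H (h.Ax E.toPairA) := by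
  obtain ⟨z₀, h0, hz0, h1⟩ := h.exists_z0
  obtain ⟨f₀, -, D'⟩ := h.fv E hz0 h0 h1
  obtain ⟨f, hf, w, hw, he⟩ := D'.zmem (u := (h.nrm E.toPairA).of z (zc_le_zl _ _ hz)) hz
  have hfix : ∀ s ∈ (S : Subgroup G), s * (h.nrm E.toPairA).val (∑ i, f i) * s⁻¹ = (h.nrm E.toPairA).val (∑ i, f i) ∧
      s * (h.nrm E.toPairA).val w * s⁻¹ = (h.nrm E.toPairA).val w := by
    intro s hs
    obtain ⟨h2, h3⟩ := D'.zfix hf hw (s := ⟨s, h.SH E.toPairA hs⟩) (by
      rw [← he]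
      refine Nrm.ext ?_
      rw [Nrm.val_smul, Nrm.val_of]
      change s * z * s⁻¹ = z
      rw [(mem_zc.1 hz).2.1 s hs, mul_inv_cancel_right]) fun i => h.smul_R E.toPairA hs i
    exact ⟨Nrm.ext_iff.1 h2, Nrm.ext_iff.1 h3⟩
  have hzc : ∀ x, x ∈ zl (S : Subgroup G) H → (∀ s ∈ (S : Subgroup G), s * x * s⁻¹ = x) → x ∈ zc (S : Subgroup G) := by
    intro x hx hs
    refine mem_zc.2 ⟨h.US E.toPairA hx, fun s hs' => mul_inv_eq_iff_eq_mul.1 (hs s hs'), ?_⟩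
    rw [pow_two]
    exact h.sqU E.toPairA hx
  have hwz := hzc _ (Nrm.val_mem _ w) fun s hs => (hfix s hs).2
  have hfz := hzc _ (Nrm.val_mem _ (∑ i, f i)) fun s hs => (hfix s hs).1
  refine ⟨f, hf, (h.nrm E.toPairA).val w, hwz, h.cent_of_Ic E hwz hw, ⟨hfz, ?_⟩, ?_, hw⟩
  · exact h.R_le E.toPairA (sum_mem fun i _ => AddSubgroup.mem_iSup_of_mem i (hf i))
  · have h2 := Nrm.ext_iff.1 he
    rwa [Nrm.val_of, Nrm.val_add] at h2

/-- **(5)** `Z ≤ Z₀ F_H` -/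
theorem zdec (E : MinA (S : Subgroup G) P H) :
    zc (S : Subgroup G) ≤ (zc (S : Subgroup G) ⊓ V₀) ⊔ (zc (S : Subgroup G) ⊓ centralizer (H : Set G)) := by
  intro z hz
  obtain ⟨f, -, y, hy, hyH, hx, rfl, -⟩ := h.exists_dec E hz
  exact mul_mem (mem_sup_left hx) (mem_sup_right ⟨hy, hyH⟩)

/-- `Z₀ ∩ F_H = 1` -/
theorem Z0_F (E : MinA (S : Subgroup G) P H) {x : G} (hx : x ∈ zc (S : Subgroup G)) (hV : x ∈ V₀)
    (hH : x ∈ centralizer (H : Set G)) : x = 1 := by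
  by_contra h1
  have hfull := h.full_of E.toPairA hV (zc_le_zl _ _ hx) (h.e_z0 E.toPairA hV hx h1)
  obtain ⟨g, hg, hi⟩ := (h.ex E.toPairA).nt ⟨0, h.kpos⟩
  have h2 := h.Ic_of_cent E.toPairA (m := (h.nrm E.toPairA).of x (zc_le_zl _ _ hx)) hH
  exact hi ((h.ex E.toPairA).six hg hfull (h2 g hg) _)

/-- **`C_U(N) = F_H`** -/
theorem mem_Ic_iff (E : MinA (S : Subgroup G) P H) {m : (h.nrm E.toPairA).Mod} :
    m ∈ Ic H (h.Ax E.toPairA) ↔ (h.nrm E.toPairA).val m ∈ zc (S : Subgroup G) ⊓ centralizer (H : Set G) := by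
  refine ⟨fun hm => ?_, fun hm => h.Ic_of_cent E.toPairA hm.2⟩
  obtain ⟨z₀, h0, hz0, h1⟩ := h.exists_z0
  obtain ⟨f₀, -, D'⟩ := h.fv E hz0 h0 h1
  set FF : AddSubgroup (h.nrm E.toPairA).Mod :=
    (h.nrm E.toPairA).ad (zc (S : Subgroup G) ⊓ centralizer (H : Set G)) with hFF
  have h2 : (⊤ : AddSubgroup (h.nrm E.toPairA).Mod) ≤ (⨆ i, Uc H (h.Ax E.toPairA) (h.R E.toPairA) i) ⊔ FF := by
    rw [← h.gen E.toPairA, AddSubgroup.closure_le]
    rintro _ ⟨x, u, hu, rfl⟩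
    obtain ⟨f, hf, y, hy, hyH, hx, e, hyI⟩ := h.exists_dec E hu
    have e' : u = ∑ i, f i + (h.nrm E.toPairA).of y (zc_le_zl _ _ hy) := Nrm.ext e
    rw [e', smul_add, Finset.smul_sum]
    refine add_mem (sum_mem fun i _ => ?_) (AddSubgroup.mem_sup_right ?_)
    · obtain ⟨j, hj⟩ := D'.smul_Uc x i
      refine AddSubgroup.mem_sup_left (AddSubgroup.mem_iSup_of_mem j ?_)
      rw [← hj]
      exact AddSubgroup.smul_mem_pointwise_smul _ _ _ (D'.R_le_Uc i (hf i))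
    · rw [Nrm.mem_ad, Nrm.val_smul, Nrm.val_of]
      rw [mem_centralizer_iff.1 hyH x x.2, mul_inv_cancel_right]
      exact ⟨hy, hyH⟩
  obtain ⟨y, hy, w, hw, e⟩ := AddSubgroup.mem_sup.1 (h2 (AddSubgroup.mem_top m))
  have hwI : w ∈ Ic H (h.Ax E.toPairA) := h.Ic_of_cent E.toPairA hw.2
  have h3 : (⨆ i, Uc H (h.Ax E.toPairA) (h.R E.toPairA) i) ≤
      ⨆ g ∈ Axs H (h.Ax E.toPairA), YY H (h.Ax E.toPairA) (h.R E.toPairA) g :=
    iSup_le fun i => iSup₂_le fun g hg => le_iSup₂_of_le g (D'.axSys.mem_A hg) le_rfl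
  obtain ⟨f, hf, rfl⟩ := D'.exists_of_mem (h3 hy)
  have h4 := D'.uniq hf (sub_mem hwI hm) (by rw [← e]; abel)
  have h5 : m = w := (sub_eq_zero.1 h4.2).symm
  rw [h5]
  exact hw

theorem fuseH (E : MinA (S : Subgroup G) P H) : ∀ x ∈ zc (S : Subgroup G) ⊓ V₀, ∀ y ∈ zc (S : Subgroup G) ⊓ V₀,
    x ≠ 1 → y ≠ 1 → ∃ g ∈ H, g * x * g⁻¹ = y := by
  intro x hx y hy hx1 hy1
  obtain ⟨f, hf, D'⟩ := h.fv E hx.1 hx.2 hx1
  obtain ⟨f', hf', D''⟩ := h.fv E hy.1 hy.2 hy1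
  obtain ⟨n, hn, e⟩ := D'.fuse (fun i => D'.R_le_Uc i (D'.zR i)) D'.z0 (fun i => D''.R_le_Uc i (D''.zR i)) D''.z0
  rw [hf, hf'] at e
  exact ⟨n, n.2, Nrm.ext_iff.1 e⟩

theorem nH (E : MinA (S : Subgroup G) P H) : ∀ g ∈ H ⊓ normalizer ((S : Subgroup G) : Set G),
    ∀ x ∈ zc (S : Subgroup G) ⊓ V₀, g * x * g⁻¹ ∈ zc (S : Subgroup G) ⊓ V₀ := by
  intro g hg x hx
  by_cases hx1 : x = 1
  · rw [hx1, mul_one, mul_inv_cancel]
    exact one_mem _
  have hgx : g * x * g⁻¹ ∈ zc (S : Subgroup G) := (mem_normalizer_iff.1 (normalizer_le_normalizer_zc _ hg.2) x).1 hx.1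
  refine ⟨hgx, ?_⟩
  obtain ⟨f, hf, D'⟩ := h.fv E hx.1 hx.2 hx1
  obtain ⟨f', hf', y, hy, hyH, hx', e, hyI⟩ := h.exists_dec E hgx
  -- `g x g⁻¹` is in the sum of the `U_i`
  have h1 : (⟨g, hg.1⟩ : H) • ∑ i, f i ∈ ⨆ g ∈ Axs H (h.Ax E.toPairA), YY H (h.Ax E.toPairA) (h.R E.toPairA) g := by
    rw [Finset.smul_sum]
    refine sum_mem fun i _ => ?_
    obtain ⟨j, hj⟩ := D'.smul_Uc (⟨g, hg.1⟩ : H) i
    have h2 : (⟨g, hg.1⟩ : H) • f i ∈ Uc H (h.Ax E.toPairA) (h.R E.toPairA) j := by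
      rw [← hj]
      exact AddSubgroup.smul_mem_pointwise_smul _ _ _ (D'.R_le_Uc i (D'.zR i))
    exact (iSup₂_le fun g hg => le_iSup₂_of_le g (D'.axSys.mem_A hg) le_rfl :
      Uc H (h.Ax E.toPairA) (h.R E.toPairA) j ≤ _) h2
  obtain ⟨f'', hf'', e''⟩ := D'.exists_of_mem h1
  have e1 : ∑ i, f'' i = ∑ i, f' i + (h.nrm E.toPairA).of y (zc_le_zl _ _ hy) := by
    rw [← e'', hf]
    exact Nrm.ext e
  have h4 := D'.uniq (f := fun i => f' i - f'' i) (fun i => sub_mem (D'.R_le_Uc i (hf' i)) (hf'' i)) hyI (by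
    rw [Finset.sum_sub_distrib, e1]
    abel)
  have h5 : y = 1 := Nrm.eq_zero_iff.1 h4.2
  rw [e, h5, mul_one]
  exact hx'.2

/-- **(6)** `|Z₀| > 2` implies `Z ≤ V₀` -/
theorem zc_le_V0 (E : MinA (S : Subgroup G) P H) (h2 : 2 < Nat.card (zc (S : Subgroup G) ⊓ V₀ : Subgroup G)) :
    zc (S : Subgroup G) ≤ V₀ :=
  (RBig.BigZ.main S h.SP (h.SH E.toPairA) inf_le_left h2 h.zE (h.zdec E) (fun _ hx hP hH => h.EF E.toPairA hx hP hH)
    h.fuseP (h.fuseH E) h.nP (h.nH E)).trans inf_le_right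

/-- **(6)** `|Z₀| = 2` unless `D = 1` -/
theorem card_Z0 (E : MinA (S : Subgroup G) P H) (hD : D ≠ ⊥) :
    Nat.card (zc (S : Subgroup G) ⊓ V₀ : Subgroup G) = 2 := by
  have h1 : Nat.card (zc (S : Subgroup G) ⊓ V₀ : Subgroup G) ≤ 2 := by
    by_contra hcon
    have h2 := h.zc_le_V0 E (by omega)
    apply hD
    rw [eq_bot_iff, ← h.disj]
    exact le_inf (h.D_le_zc.trans h2) le_rfl
  obtain ⟨z₀, h0, hz0, h2⟩ := h.exists_z0
  have h3 : 1 < Nat.card (zc (S : Subgroup G) ⊓ V₀ : Subgroup G) := by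
    rw [Subgroup.one_lt_card_iff_ne_bot]
    intro h4
    have h5 : z₀ ∈ zc (S : Subgroup G) ⊓ V₀ := ⟨hz0, h0⟩
    rw [h4, mem_bot] at h5
    exact h2 h5
  omega

/-- the elements of `Z₀` -/
theorem eq_or (E : MinA (S : Subgroup G) P H) (hD : D ≠ ⊥) {z₀ x : G} (hz : z₀ ∈ zc (S : Subgroup G)) (hV : z₀ ∈ V₀)
    (h1 : z₀ ≠ 1) (hx : x ∈ zc (S : Subgroup G)) (hxV : x ∈ V₀) : x = 1 ∨ x = z₀ := by
  by_contra hcon
  push Not at hcon
  have h2 := h.card_Z0 E hD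
  have h3 : ({1, z₀, x} : Set G) ⊆ ((zc (S : Subgroup G) ⊓ V₀ : Subgroup G) : Set G) := by
    rintro y (rfl | rfl | rfl)
    · exact one_mem _
    · exact ⟨hz, hV⟩
    · exact ⟨hx, hxV⟩
  have h4 := Set.ncard_le_ncard h3 (Set.toFinite _)
  have h5 : ((zc (S : Subgroup G) ⊓ V₀ : Subgroup G) : Set G).ncard = 2 := h2
  have h6 : ({1, z₀, x} : Set G).ncard = 3 := Set.ncard_eq_three.2 ⟨1, z₀, x, h1.symm, hcon.1.symm, hcon.2.symm, rfl⟩
  omega

/-- `C_H(z₀) = C_G(Z)` -/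
theorem cent_z0 (E : MinA (S : Subgroup G) P H) (hD : D ≠ ⊥) {z₀ : G} (hz : z₀ ∈ zc (S : Subgroup G)) (hV : z₀ ∈ V₀)
    (h1 : z₀ ≠ 1) : H ⊓ centralizer ({z₀} : Set G) = CZ (S : Subgroup G) := by
  refine le_antisymm ?_ (le_inf E.long.cz (centralizer_le (Set.singleton_subset_iff.2 hz)))
  intro x hx
  rw [mem_centralizer_iff]
  intro z hz'
  obtain ⟨f, -, y, hy, hyH, hx', rfl, -⟩ := h.exists_dec E hz'
  have h2 : x * (h.nrm E.toPairA).val (∑ i, f i) = (h.nrm E.toPairA).val (∑ i, f i) * x := by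
    rcases h.eq_or E hD hz hV h1 hx'.1 hx'.2 with h3 | h3
    · rw [h3, mul_one, one_mul]
    · rw [h3]
      exact (mem_centralizer_iff.1 hx.2 z₀ rfl).symm
  rw [mul_assoc, ← mem_centralizer_iff.1 hyH x hx.1, ← mul_assoc, ← h2, mul_assoc]

/-- **`Z = ⟨e, f⟩`, `E = ⟨e⟩`, `F_H = ⟨f⟩`, `Z₀ = ⟨e f⟩`.** -/
theorem exists_ef (E : MinA (S : Subgroup G) P H) (hD : D ≠ ⊥) : ∃ e f z₀ : G, e ≠ 1 ∧ f ≠ 1 ∧ e ≠ f ∧ z₀ ≠ 1 ∧
    z₀ = e * f ∧ z₀ ∈ V₀ ∧ z₀ ∈ zc (S : Subgroup G) ∧ e ∈ zc (S : Subgroup G) ∧ f ∈ zc (S : Subgroup G) ∧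
    (∀ x, x ∈ zc (S : Subgroup G) ↔ x = 1 ∨ x = e ∨ x = f ∨ x = z₀) ∧
    (∀ x, x ∈ zc (S : Subgroup G) ∧ x ∈ V₀ ↔ x = 1 ∨ x = z₀) ∧
    (∀ x, x ∈ D ↔ x = 1 ∨ x = e) ∧
    (∀ x, x ∈ zc (S : Subgroup G) ∧ x ∈ centralizer (P : Set G) ↔ x = 1 ∨ x = e) ∧
    (∀ x, x ∈ zc (S : Subgroup G) ∧ x ∈ centralizer (H : Set G) ↔ x = 1 ∨ x = f) := by
  obtain ⟨z₀, h0, hz, h1⟩ := h.exists_z0
  have hcomm : ∀ x ∈ zc (S : Subgroup G), ∀ y ∈ zc (S : Subgroup G), x * y = y * x :=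
    MinSimple.VModule.zc_comm _
  have hsq : ∀ x ∈ zc (S : Subgroup G), x * x = 1 := fun x hx => by
    have := (mem_zc.1 hx).2.2
    rwa [pow_two] at this
  -- every `x ∈ Z` is `1` or `z₀` times an element of `D`, resp. `F_H`
  have hd1 : ∀ x ∈ zc (S : Subgroup G), x ∈ D ∨ z₀ * x ∈ D := by
    intro x hx
    obtain ⟨w, hw, d, hd, rfl⟩ := h.exists_mul (zc_le_zl _ _ hx)
    have hdz := h.D_le_zc hd
    have hwz : w ∈ zc (S : Subgroup G) := by
      have := mul_mem hx (inv_mem hdz)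
      rwa [mul_inv_cancel_right] at this
    rcases h.eq_or E hD hz h0 h1 hwz hw with h3 | h3
    · left; rw [h3, one_mul]; exact hd
    · right; rw [h3, ← mul_assoc, hsq _ hz, one_mul]; exact hd
  have hf1 : ∀ x ∈ zc (S : Subgroup G), x ∈ centralizer (H : Set G) ∨ z₀ * x ∈ centralizer (H : Set G) := by
    intro x hx
    obtain ⟨f, -, y, hy, hyH, hx', e, -⟩ := h.exists_dec E hx
    rcases h.eq_or E hD hz h0 h1 hx'.1 hx'.2 with h3 | h3
    · left; rw [e, h3, one_mul]; exact hyH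
    · right; rw [e, h3, ← mul_assoc, hsq _ hz, one_mul]; exact hyH
  obtain ⟨⟨e, heD⟩, he⟩ := Subgroup.ne_bot_iff_exists_ne_one.1 hD
  have he1 : e ≠ 1 := fun h2 => he (Subtype.ext h2)
  have hez := h.D_le_zc heD
  have heP := h.D_le_cent heD
  have heV : ∀ x ∈ D, x ∈ V₀ → x = 1 := fun x hx hxV => by
    have : x ∈ V₀ ⊓ D := ⟨hxV, hx⟩
    rwa [h.disj, mem_bot] at this
  have hDH : ∀ x ∈ D, x ∈ centralizer (H : Set G) → x = 1 := fun x hx hxH =>
    h.EF E.toPairA (h.D_le_zc hx) (h.D_le_cent hx) hxH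
  set f := z₀ * e with hfdef
  have hfz : f ∈ zc (S : Subgroup G) := mul_mem hz hez
  have hfH : f ∈ centralizer (H : Set G) := (hf1 e hez).resolve_left fun h2 => he1 (hDH e heD h2)
  have hef : z₀ = e * f := by
    rw [hfdef, ← mul_assoc, hcomm e hez z₀ hz, mul_assoc, hsq e hez, mul_one]
  -- `D = {1, e}`
  have hD2 : ∀ x, x ∈ D ↔ x = 1 ∨ x = e := by
    refine fun x => ⟨fun hx => ?_, ?_⟩
    · have hxz := h.D_le_zc hx
      by_cases hx1 : x = 1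
      · exact Or.inl hx1
      right
      have h2 : z₀ * x ∈ centralizer (H : Set G) := (hf1 x hxz).resolve_left fun h2 => hx1 (hDH x hx h2)
      have h3 : (z₀ * x) * (z₀ * e)⁻¹ = x * e⁻¹ := by
        rw [hcomm z₀ hz x hxz, hcomm z₀ hz e hez]; group
      have h4 : x * e⁻¹ = 1 := hDH _ (mul_mem hx (inv_mem heD)) (by rw [← h3]; exact mul_mem h2 (inv_mem hfH))
      exact mul_inv_eq_one.1 h4
    · rintro (rfl | rfl)
      · exact one_mem _
      · exact heD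
  have hZ0f : ∀ x, x ∈ zc (S : Subgroup G) ∧ x ∈ centralizer (H : Set G) ↔ x = 1 ∨ x = f := by
    refine fun x => ⟨fun hx => ?_, ?_⟩
    · rcases hd1 x hx.1 with h2 | h2
      · exact Or.inl (hDH x h2 hx.2)
      · rcases (hD2 _).1 h2 with h3 | h3
        · have h4 : x = z₀ := by
            have h5 := congrArg (fun t => z₀ * t) h3
            simp only [mul_one] at h5
            rwa [← mul_assoc, hsq _ hz, one_mul] at h5
          exact Or.inl (h.Z0_F E hx.1 (h4 ▸ h0) hx.2)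
        · right
          have h5 : z₀ * (z₀ * x) = z₀ * e := by rw [h3]
          rwa [← mul_assoc, hsq _ hz, one_mul] at h5
    · rintro (rfl | rfl)
      · exact ⟨one_mem _, one_mem _⟩
      · exact ⟨hfz, hfH⟩
  have hf0 : f ≠ 1 := fun h2 => by
    have h3 : z₀ = e⁻¹ := eq_inv_of_mul_eq_one_left h2
    exact h1 (heV z₀ (h3 ▸ inv_mem heD) h0)
  refine ⟨e, f, z₀, he1, hf0, fun h2 => he1 (hDH e heD (h2 ▸ hfH)), h1, hef, h0, hz, hez, hfz, ?_, ?_, hD2, ?_, hZ0f⟩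
  · refine fun x => ⟨fun hx => ?_, ?_⟩
    · rcases hd1 x hx with h2 | h2
      · rcases (hD2 x).1 h2 with h3 | h3
        · exact Or.inl h3
        · exact Or.inr (Or.inl h3)
      · rcases (hD2 _).1 h2 with h3 | h3
        · right; right; right
          have h5 := congrArg (fun t => z₀ * t) h3
          simp only [mul_one] at h5
          rwa [← mul_assoc, hsq _ hz, one_mul] at h5
        · right; right; left
          have h5 : z₀ * (z₀ * x) = z₀ * e := by rw [h3]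
          rwa [← mul_assoc, hsq _ hz, one_mul] at h5
    · rintro (rfl | rfl | rfl | rfl)
      · exact one_mem _
      · exact hez
      · exact hfz
      · exact hz
  · refine fun x => ⟨fun hx => h.eq_or E hD hz h0 h1 hx.1 hx.2, ?_⟩
    rintro (rfl | rfl)
    · exact ⟨one_mem _, one_mem _⟩
    · exact ⟨hz, h0⟩
  · intro x
    rw [← hD2, ← h.cent_P, mem_inf]

end Hyp

end Cfsg.Agent.Omega.NOThreeL.RSplit

end

section


/-!
# NO-3L, box R ∩ (A), `q > 2`, `V_P` split (#19602, helper797): (7), the instance of END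

`h : Hyp M V₀`, `E : MinA S P H`, `D = C_Z(P) ≠ 1`.

* `gr A B` : the subgroup of `G` of an additive subgroup `B` of the module `U`;
* `Hyp.endC`, `Hyp.endB` : the data of `RSplit/EndB.lean`; `Hyp.qp` : (Q);
* **`Hyp.false_of_ne`** : a contradiction.
-/

set_option autoImplicit false
set_option linter.unusedSectionVars false

namespace Cfsg.Agent.Omega.NOThreeL.RSplit

open Subgroup Cfsg Cfsg.Agent.Omega.MinPar
open Cfsg.Agent.ZN (zc zl o2)
open Cfsg.Agent.Omega.Frame Cfsg.Agent.Omega.FrameNOFF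
open Cfsg.Agent.Omega.Node.NO3L Cfsg.Agent.Omega.NOThreeL.Basic
open Cfsg.Agent.Omega.NoFF.Basic (conj_conj mem_conj conj_le_iff conj_le_centralizer comm_symm comm_mono)
open Cfsg.Agent.Omega.NOThreeL.Pair (conj_eq_of_mem conj_le_normalizer zl_abel)
open Cfsg.Agent.MinSimple.VModule (zl_le zc_le_zl le_normalizer_zl zc_le o2_isPGroup le_normalizer_o2 le_o2
  normalizer_le_normalizer_zc mem_zc)
open Cfsg.Agent.Omega.FFThm (Off NatK ActsSL)
open Cfsg.Agent.Omega.NOThreeL.ThmAx (Full IsAx TT YY mem_smul IsAx.smul YY_smul_eq)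
open Cfsg.Agent.Omega.NOThreeL.RSplit.TransRt (Axs)
open Cfsg.Agent.Omega.NOThreeL.RSplit.Five (Cpt Nc Uc Ic Fv)
open Cfsg.Agent.Omega.NOThreeL.RSplit.FrameOf (Ptt Vv)
open Cfsg.Agent.Omega.NOThreeL.RSplit.ManyAx (Many)
open Cfsg.Agent.Omega.NOThreeL.RBig.Pts (OneAx)
open Cfsg.Agent.Omega.NOThreeL.RSplit.EndFv (Dc)
open Cfsg.Agent.Omega.NOThreeL.RSplit.EndB (RR EndC EndB)
open scoped Pointwise commutatorElement

universe u

variable {G : Type u} [Group G]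

/-- the subgroup of `G` of an additive subgroup of the module -/
def gr {H U : Subgroup G} (A : Nrm H U) (B : AddSubgroup A.Mod) : Subgroup G where
  carrier := {x | ∃ m ∈ B, A.val m = x}
  one_mem' := ⟨0, zero_mem _, Nrm.val_zero⟩
  mul_mem' := by
    rintro _ _ ⟨m, hm, rfl⟩ ⟨m', hm', rfl⟩
    exact ⟨m + m', add_mem hm hm', Nrm.val_add _ _⟩
  inv_mem' := by
    rintro _ ⟨m, hm, rfl⟩
    exact ⟨-m, neg_mem hm, Nrm.val_neg _⟩

namespace gr

variable {H U : Subgroup G} {A : Nrm H U} {B C : AddSubgroup A.Mod}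

theorem mem_iff {x : G} : x ∈ gr A B ↔ ∃ m ∈ B, A.val m = x := Iff.rfl

theorem val_mem {m : A.Mod} : A.val m ∈ gr A B ↔ m ∈ B := by
  constructor
  · rintro ⟨m', hm', e⟩
    rwa [← Nrm.ext e]
  · exact fun hm => ⟨m, hm, rfl⟩

theorem le_U : gr A B ≤ U := by
  rintro _ ⟨m, -, rfl⟩
  exact Nrm.val_mem _ m

theorem mono (h : B ≤ C) : gr A B ≤ gr A C := by
  rintro _ ⟨m, hm, rfl⟩
  exact ⟨m, h hm, rfl⟩

theorem sup : gr A (B ⊔ C) = gr A B ⊔ gr A C := by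
  refine le_antisymm ?_ (sup_le (mono le_sup_left) (mono le_sup_right))
  rintro _ ⟨m, hm, rfl⟩
  obtain ⟨a, ha, b, hb, rfl⟩ := AddSubgroup.mem_sup.1 hm
  rw [Nrm.val_add]
  exact mul_mem (mem_sup_left ⟨a, ha, rfl⟩) (mem_sup_right ⟨b, hb, rfl⟩)

theorem ad_eq {K : Subgroup G} (hK : K ≤ U) : gr A (A.ad K) = K := by
  ext x
  constructor
  · rintro ⟨m, hm, rfl⟩
    exact hm
  · exact fun hx => ⟨A.of x (hK hx), hx, rfl⟩

end gr

variable {F : Type} [Field F] {k : ℕ}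

namespace Hyp

variable [Finite G] {S : Sylow 2 G} {P H D V₀ : Subgroup G}
variable {M : NatK F (S : Subgroup G) P (zl (S : Subgroup G) P) D k} (h : Hyp M V₀)
include h

variable [CharP F 2]

/-- `H` is generated by `C` and members of `P*(S)` -/
theorem gen' (E : MinA (S : Subgroup G) P H) : RTransv.Gen (S : Subgroup G) H := by
  obtain ⟨H₁, h1, h2, h3, h4⟩ := RTransv.exists_gen E.long
  by_cases h : H₁ = H
  · rwa [h] at h4
  · exact absurd (by rw [← h3]; exact E.min H₁ h2 h1 h) E.ne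

/-- `[U, V] = ∏ R_i` -/
theorem RR_eq (E : PairA (S : Subgroup G) P H) :
    RR (S : Subgroup G) P H = gr (h.nrm E) (⨆ i, h.R E i) := by
  refine le_antisymm ?_ ?_
  · have h1 : RR (S : Subgroup G) P H ≤ ⨆ i, rr M V₀ i := fun r hr => h.ln_le ((h.mem_RR E).1 hr)
    refine h1.trans (iSup_le fun i => ?_)
    rw [← gr.ad_eq (A := h.nrm E) (h.rr_le_U E i)]
    exact gr.mono (le_iSup (h.R E) i)
  · rintro _ ⟨m, hm, rfl⟩
    have h1 : (⨆ i, h.R E i) ≤ (h.nrm E).ad (RR (S : Subgroup G) P H) := by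
      refine iSup_le fun i m hm => ?_
      rw [Nrm.mem_ad, h.mem_RR E]
      have hm' : (h.nrm E).val m ∈ rr M V₀ i := hm
      refine ⟨hm'.1.1, fun j => ?_⟩
      by_cases hj : j = i
      · subst hj
        exact hm'.2
      · rw [hm'.1.2.2 j hj]
        rfl
    exact h1 hm

section fv

variable (E : MinA (S : Subgroup G) P H) (hD : D ≠ ⊥) {z₀ : G} (hz : z₀ ∈ zc (S : Subgroup G)) (hV : z₀ ∈ V₀)
  (h1 : z₀ ≠ 1) {f : Fin k → (h.nrm E.toPairA).Mod}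
  (hf : ∑ i, f i = (h.nrm E.toPairA).of z₀ (zc_le_zl _ _ hz))
  (Q : Fv (TH M V₀ H) (h.Ax E.toPairA) (h.R E.toPairA) f (h.Zv E.toPairA))

/-- `U₁ = [U, N]` -/
abbrev U1 (E : MinA (S : Subgroup G) P H) : Subgroup G :=
  gr (h.nrm E.toPairA) (⨆ i, Uc H (h.Ax E.toPairA) (h.R E.toPairA) i)

include E hD hz hV h1 hf Q

/-- the common data -/
theorem endC : EndC (S : Subgroup G) P H (h.U1 E) z₀ where
  par := h.par
  long := E.long
  ne := fun hc => E.ne (comm_symm hc)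
  gen := h.gen' E
  U₁U := gr.le_U
  RU := by
    rw [h.RR_eq E.toPairA]
    exact gr.mono (EndFv.iSup_R_le_Uc Q)
  HU := fun g hg => by
    refine EndB.mem_norm_of_le ?_
    intro x hx
    rw [mem_conj] at hx
    obtain ⟨m, hm, e⟩ := hx
    refine ⟨(⟨g, hg⟩ : H) • m, EndFv.smul_iSup_Uc Q _ hm, ?_⟩
    rw [Nrm.val_smul, e]
    change g * (g⁻¹ * x * g) * g⁻¹ = x
    group
  ZF := by
    refine (h.zdec E).trans (sup_le_sup_right ?_ _)
    rintro z ⟨hzz, hzV⟩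
    rw [h.mem_RR E.toPairA]
    refine ⟨hzV, fun i => ?_⟩
    by_cases hz1 : z = 1
    · rw [hz1, RStr.e_one M]
      rfl
    · exact (h.e_ne hzz hzV hz1 i).2
  z0 := hz
  z0R := by
    rw [h.mem_RR E.toPairA]
    exact ⟨hV, fun i => (h.e_ne hz hV h1 i).2⟩
  z01 := h1
  pts := fun x hx hxR => by
    rw [h.RR_eq E.toPairA] at hxR ⊢
    have h2 : (⟨x, hx⟩ : H) • ∑ i, f i ∈ ⨆ i, h.R E.toPairA i := by
      rw [← gr.val_mem, hf, Nrm.val_smul, Nrm.val_of]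
      exact hxR
    intro y hy
    rw [mem_conj] at hy
    obtain ⟨m, hm, e⟩ := hy
    refine ⟨(⟨x, hx⟩ : H) • m, EndFv.smul_iSup_R Q h2 hm, ?_⟩
    rw [Nrm.val_smul, e]
    change x * (x⁻¹ * y * x) * x⁻¹ = y
    group

omit hD h1 hV in
theorem mem_C {x : H} (hx : x • ∑ i, f i = ∑ i, f i) : (x : G) ∈ centralizer ({z₀} : Set G) := by
  rw [hf] at hx
  have h2 := Nrm.ext_iff.1 hx
  rw [Nrm.val_smul, Nrm.val_of] at h2
  exact mem_centralizer_singleton_iff.2 (mul_inv_eq_iff_eq_mul.1 h2)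

/-- (Q) -/
theorem qp (one : ∀ i, OneAx (Ptt H (h.Ax E.toPairA) (h.R E.toPairA) (Cpt H (h.Ax E.toPairA) (h.R E.toPairA) i)
      (Uc H (h.Ax E.toPairA) (h.R E.toPairA) i))
    (Vv (TH M V₀ H) (h.Ax E.toPairA) (h.R E.toPairA) (Cpt H (h.Ax E.toPairA) (h.R E.toPairA) i)
      (Uc H (h.Ax E.toPairA) (h.R E.toPairA) i))) : RA.End.QP (S : Subgroup G) P H := by
  intro B hB hCB hBB b hb
  have hBC : B ≤ CZ (S : Subgroup G) := hB.trans (Cfsg.Agent.MinSimple.VModule.o2_le _)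
  have hBH : B ≤ H := hBC.trans E.long.cz
  obtain ⟨v, hv, h2⟩ := QuadFv.quad_main Q (h.free E.toPairA) one (B := B.subgroupOf H)
    (fun b hb => by
      rw [hf]
      refine Nrm.ext ?_
      rw [Nrm.val_smul, Nrm.val_of]
      rw [← mem_centralizer_iff.1 (hBC (mem_subgroupOf.1 hb)) z₀ hz, mul_inv_cancel_right])
    (fun b _ u hu => by
      have h3 := (h.mem_Ic_iff E).1 hu
      refine Nrm.ext ?_
      rw [Nrm.val_smul, mem_centralizer_iff.1 h3.2 b b.2, mul_inv_cancel_right])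
    (fun x hx _ b hb => by
      have h3 : (x : G) ∈ CZ (S : Subgroup G) := by
        rw [← h.cent_z0 E hD hz hV h1]
        exact ⟨x.2, h.mem_C E hz hf Q hx⟩
      exact (mem_normalizer_iff.1 (hCB h3) b).1 hb)
    (fun b hb b' hb' m => by
      refine Nrm.ext ?_
      rw [Nrm.val_smul, Nrm.val_add, Nrm.val_smul]
      have hm : (h.nrm E.toPairA).val m ∈ CZ (S : Subgroup G) := (le_CZ _) (h.US E.toPairA (Nrm.val_mem _ m))
      have h3 : (h.nrm E.toPairA).val m * (b' : G)⁻¹ * ((h.nrm E.toPairA).val m)⁻¹ ∈ B :=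
        (mem_normalizer_iff.1 (hCB hm) _).1 (inv_mem hb')
      have h4 : ((h.nrm E.toPairA).val m)⁻¹ = (h.nrm E.toPairA).val m :=
        inv_eq_of_mul_eq_one_left (h.sqU E.toPairA (Nrm.val_mem _ m))
      have h5 : (b' : G) * (h.nrm E.toPairA).val m * (b' : G)⁻¹ * (h.nrm E.toPairA).val m ∈ B := by
        rw [h4] at h3
        have e : (b' : G) * (h.nrm E.toPairA).val m * (b' : G)⁻¹ * (h.nrm E.toPairA).val m =
            b' * ((h.nrm E.toPairA).val m * (b' : G)⁻¹ * (h.nrm E.toPairA).val m) := by group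
        rw [e]
        exact mul_mem hb' h3
      have h6 : (b' : G) * (h.nrm E.toPairA).val m * (b' : G)⁻¹ * (h.nrm E.toPairA).val m * (b : G) =
        (b : G) * ((b' : G) * (h.nrm E.toPairA).val m * (b' : G)⁻¹ * (h.nrm E.toPairA).val m) :=
        mem_centralizer_iff.1 (hBB (mem_subgroupOf.1 hb)) _ h5
      rw [← h6, mul_inv_cancel_right]) (mem_subgroupOf.2 hb : (⟨b, hBH hb⟩ : H) ∈ B.subgroupOf H)
  have hvV : (v : G) ∈ zl (S : Subgroup G) P := by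
    have h3 : (⨆ i, TH M V₀ H i) ≤ (zl (S : Subgroup G) P).subgroupOf H :=
      iSup_le fun i t ht => mem_subgroupOf.2 (mem_subgroupOf.1 ht).2.1
    exact mem_subgroupOf.1 (h3 hv)
  have h3 : (v : G)⁻¹ * b ∈ centralizer (zl (S : Subgroup G) H : Set G) := by
    rw [mem_centralizer_iff]
    intro u hu
    have h4 := Nrm.ext_iff.1 (h2 ((h.nrm E.toPairA).of u hu))
    rw [Nrm.val_smul, Nrm.val_smul, Nrm.val_of] at h4
    change b * u * b⁻¹ = v * u * (v : G)⁻¹ at h4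
    have h5 : (v : G)⁻¹ * (b * u * b⁻¹) * b = u * ((v : G)⁻¹ * b) := by
      rw [h4]
      group
    rw [← h5]
    group
  have e : b = v * ((v : G)⁻¹ * b) := by group
  rw [e]
  exact mul_mem (mem_sup_left hvV) (mem_sup_right h3)

/-- the data of ONE AXIS -/
theorem endB (one : ∀ i, OneAx (Ptt H (h.Ax E.toPairA) (h.R E.toPairA) (Cpt H (h.Ax E.toPairA) (h.R E.toPairA) i)
      (Uc H (h.Ax E.toPairA) (h.R E.toPairA) i))
    (Vv (TH M V₀ H) (h.Ax E.toPairA) (h.R E.toPairA) (Cpt H (h.Ax E.toPairA) (h.R E.toPairA) i)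
      (Uc H (h.Ax E.toPairA) (h.R E.toPairA) i))) {f₀ : G}
    (hf₀ : f₀ ∈ zc (S : Subgroup G) ⊓ centralizer (H : Set G)) (hf1 : f₀ ≠ 1) : ∃ w : G,
      EndB (S : Subgroup G) P H (h.U1 E) z₀ f₀ w
        (fun i => gr (h.nrm E.toPairA) (Uc H (h.Ax E.toPairA) (h.R E.toPairA) i))
        (fun i => gr (h.nrm E.toPairA) (Dc H (h.Ax E.toPairA) (h.R E.toPairA) i))
        (fun i => gr (h.nrm E.toPairA) (h.R E.toPairA i)) := by
  obtain ⟨w, hw, ho1, ho2, ho3, ho4⟩ := h.exists_opp E.toPairA hf₀ hf1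
  refine ⟨w, { toEndC := h.endC E hD hz hV h1 hf Q, indep := ?_, U_le := ?_, le_D := ?_, RR_le := ?_, inter := ?_,
               trC := ?_, exA := ?_, tr := ?_, hQ := h.qp E hD hz hV h1 hf Q one, hf := hf₀, hw := hw,
               Vw := ho1, Vw' := ho2, op := ho3, opR := ho4 }⟩
  · rintro i _ ⟨m, hm, rfl⟩ h2
    rw [← gr.sup, gr.val_mem] at h2
    rw [gr.val_mem]
    exact EndFv.indep Q hm h2
  · exact fun i => gr.mono (le_iSup (Uc H (h.Ax E.toPairA) (h.R E.toPairA)) i)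
  · exact fun i j hij => gr.mono (EndFv.Uc_le_Dc hij)
  · intro i
    rw [h.RR_eq E.toPairA, ← gr.sup]
    exact gr.mono (EndFv.iSup_R_le Q i)
  · rintro _ ⟨m, hm, rfl⟩ h2
    rw [h.RR_eq E.toPairA, gr.val_mem]
    refine EndFv.inter Q hm fun i => ?_
    have h3 := h2 i
    rwa [← gr.sup, gr.val_mem] at h3
  · intro i j
    obtain ⟨s, hs, hij⟩ := h.exists_S i j
    refine ⟨s, le_CZ _ hs, ?_⟩
    rintro _ ⟨m, hm, rfl⟩ h2
    have hsH : s ∈ H := h.SH E.toPairA hs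
    have hA : (⟨s, hsH⟩ : H) • h.Ax E.toPairA i = h.Ax E.toPairA j := by
      rw [Nrm.smul_ad]
      change (h.nrm E.toPairA).ad (MulAut.conj s • centralizer (nn M V₀ i : Set G)) = _
      rw [smul_centralizer, h.conj_nn (h.SP hs), hij]
    have hR : (⟨s, hsH⟩ : H) • h.R E.toPairA i = h.R E.toPairA j := by
      rw [Nrm.smul_ad]
      change (h.nrm E.toPairA).ad (MulAut.conj s • rr M V₀ i) = _
      rw [h.conj_rr hs, hij]
    have hU := EndFv.smul_Uc_of Q hA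
    constructor
    · refine ⟨(⟨s, hsH⟩ : H) • m, ?_, rfl⟩
      rw [← hU]
      exact AddSubgroup.smul_mem_pointwise_smul _ _ _ hm
    · intro h3
      apply h2
      rw [gr.val_mem]
      have h4 : (⟨s, hsH⟩ : H) • m ∈ h.R E.toPairA j := by
        rw [← gr.val_mem]
        exact h3
      rw [← hR, mem_smul, inv_smul_smul] at h4
      exact h4
  · rintro i _ ⟨m, hm, rfl⟩ hmV h2
    rw [← gr.sup, gr.val_mem] at h2
    obtain ⟨g, hg, rfl⟩ := EndFv.exists_sum hm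
    have hgR : g i ∉ h.R E.toPairA i := fun h3 => h2 (EndFv.mem_Dc_sup hg h3)
    have hgA : g i ∈ h.Ax E.toPairA i := by
      have h3 : ∑ j, g j ∈ h.Ax E.toPairA i :=
        (centralizer_le (nn_le_V i) : centralizer (zl (S : Subgroup G) P : Set G) ≤ _) hmV
      rw [← Finset.add_sum_erase Finset.univ g (Finset.mem_univ i)] at h3
      refine ((h.Ax E.toPairA i).add_mem_cancel_right (sum_mem fun j hj => ?_)).1 h3
      exact Q.Uc_le (Finset.ne_of_mem_erase hj).symm (Fv.self_mem i) (hg j)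
    obtain ⟨x, hx1, hx2, hx3, hx4, hx5⟩ := EndFv.exists_sep Q (h.free E.toPairA) (one i) (hg i) hgA hgR
    have hxz : x • ∑ j, f j = ∑ j, f j := by
      rw [Finset.smul_sum]
      refine Finset.sum_congr rfl fun j _ => ?_
      by_cases hj : j = i
      · subst hj
        exact hx3 _ (Q.zR j)
      · exact hx1 j hj _ (Q.R_le_Uc j (Q.zR j))
    have hxC : (x : G) ∈ CZ (S : Subgroup G) := by
      rw [← h.cent_z0 E hD hz hV h1]
      exact ⟨x.2, h.mem_C E hz hf Q hxz⟩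
    have hxm : x • ∑ j, g j = ∑ j, g j + (x • g i - g i) := by
      rw [← Finset.add_sum_erase Finset.univ g (Finset.mem_univ i), smul_add, Finset.smul_sum,
        Finset.sum_congr rfl fun j hj => hx1 j (Finset.ne_of_mem_erase hj) _ (hg j)]
      abel
    have e : (h.nrm E.toPairA).val (∑ j, g j) * ((x : G) * ((h.nrm E.toPairA).val (∑ j, g j))⁻¹ * (x : G)⁻¹) =
        (h.nrm E.toPairA).val (-(x • g i - g i)) := by
      have h3 : -(x • g i - g i) = ∑ j, g j + x • (-∑ j, g j) := by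
        rw [smul_neg, hxm]
        abel
      rw [h3, Nrm.val_add, Nrm.val_smul, Nrm.val_neg]
    refine ⟨x, hxC, ?_, ?_⟩
    · rw [e, gr.val_mem]
      exact neg_mem hx4
    · rw [e, gr.val_mem]
      intro h3
      exact hx5 (by simpa using neg_mem h3)
  · rintro _ ⟨m, hm, rfl⟩ h2
    obtain ⟨g, hg, rfl⟩ := EndFv.exists_sum hm
    have hg0 : ∀ i, g i ≠ 0 := by
      intro i h3
      apply h2 i
      rw [gr.val_mem]
      exact ⟨g, hg, h3, rfl⟩
    obtain ⟨n, -, hn⟩ := Q.fuse (fun i => Q.R_le_Uc i (Q.zR i)) Q.z0 hg hg0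
    refine ⟨n, n.2, ?_⟩
    rw [← hn, hf, Nrm.val_smul, Nrm.val_of]

/-- MANY AXES -/
theorem falseA (many : ∀ i, Many (TH M V₀ H) (h.Ax E.toPairA) (h.R E.toPairA)
    (Cpt H (h.Ax E.toPairA) (h.R E.toPairA) i) (Uc H (h.Ax E.toPairA) (h.R E.toPairA) i)) : False := by
  have T := h.endC E hD hz hV h1 hf Q
  refine T.falseA h.hc h.data ?_
  rintro _ ⟨m, hm, rfl⟩ h2
  rw [h.RR_eq E.toPairA, gr.val_mem]
  refine EndFv.mem_of_many Q (h.free E.toPairA) many hm fun x hx l => ?_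
  rw [Nrm.smul_ad, Nrm.mem_ad, smul_centralizer]
  have h3 : (x : G) * z₀ * (x : G)⁻¹ ∈ RR (S : Subgroup G) P H := by
    rw [h.RR_eq E.toPairA]
    rw [← gr.val_mem, hf, Nrm.val_smul, Nrm.val_of] at hx
    exact hx
  have h4 := h2 x x.2 (EndB.mem_norm_of_le (T.pts x x.2 h3))
  have h5 : MulAut.conj (x : G) • nn M V₀ l ≤ MulAut.conj (x : G) • zl (S : Subgroup G) P :=
    conj_le_iff.2 (nn_le_V l)
  exact centralizer_le h5 h4

end fv

/-- **(7)** -/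
theorem false_of_ne (E : MinA (S : Subgroup G) P H) (hD : D ≠ ⊥) : False := by
  obtain ⟨e, f₀, z₀, he1, hf1, hef, h1, hz0, hV, hz, hez, hfz, -, -, -, -, hF⟩ := h.exists_ef E hD
  obtain ⟨f, hf, Q⟩ := h.fv E hz hV h1
  rcases QuadFv.many_or_one Q (h.free E.toPairA) with hm | ho
  · exact h.falseA E hD hz hV h1 hf Q hm
  · have hf₀ : f₀ ∈ zc (S : Subgroup G) ⊓ centralizer (H : Set G) := (hF f₀).2 (Or.inr rfl)
    obtain ⟨w, hw⟩ := h.endB E hD hz hV h1 hf Q ho hf₀ hf1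
    exact hw.false h.hc h.data (by rw [h.cent_P]; exact hD)

end Hyp

end Cfsg.Agent.Omega.NOThreeL.RSplit

end
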