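import Cfsg.Agent.Mrg.Omega.NOThreeL.RSplit.Base
import Cfsg.Agent.Mrg.Omega.NOThreeL.RTwo
import Cfsg.Agent.Mrg.Omega.NOThreeL.RA.End
import Cfsg.Agent.Mrg.Omega.NOThreeL.RBig.AxRInst

section


/-!
# NO-3L, box R ∩ (A), `q > 2`, `V_P` split (#19602, helper797): (1), (3), (4)

`h : Hyp M V₀`, `E : PairA S P H`, `MinA S P H` : `H` is moreover minimal; `h.Ax E i = C_U(N_i)`, `h.R E i = R_i`,
`TH M V₀ H i = N_i` in the `H`-module `U`.

* `Hyp.sit` : for `z ∈ Z` not fixed by `N = ⟨V^H⟩` and `H` minimal, the situation `RBig.Trans.Sit`;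
* **`Hyp.three`** (3) : `1 ≠ z₀ ∈ V₀ ∩ Z` implies `V ≤ O₂(C_G(z₀))`;
* `Hyp.noff` : `t` centralises a full vector of `R`: `[V, V^t] = 1`;
* **`Hyp.ex`** : `Root.Ex` for every `H`; `Hyp.exact` : THEOREM EXACT WITH RADICAL.
-/

set_option autoImplicit false
set_option linter.unusedSectionVars false

namespace Cfsg.Agent.Omega.NOThreeL.RSplit

open Subgroup Cfsg Cfsg.Agent.Omega.MinPar
open Cfsg.Agent.ZN (zc zl o2)
open Cfsg.Agent.Omega.Frame Cfsg.Agent.Omega.FrameNOFF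
open Cfsg.Agent.Omega.Node.NO3L Cfsg.Agent.Omega.NOThreeL.Basic
open Cfsg.Agent.Omega.NoFF.Basic (conj_conj mem_conj conj_le_iff conj_le_centralizer comm_symm comm_mono)
open Cfsg.Agent.Omega.NOThreeL.Pair (conj_eq_of_mem conj_le_normalizer zl_abel)
open Cfsg.Agent.MinSimple.VModule (zl_le zc_le_zl le_normalizer_zl zc_le o2_isPGroup le_normalizer_o2 le_o2
  normalizer_le_normalizer_zc mem_zc)
open Cfsg.Agent.Omega.NOThreeL.RTools (NN conj_mem_of_mem conj_le_NN le_NN NN_le le_normalizer_NN isLong)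
open Cfsg.Agent.Omega.FFThm (Off NatK ActsSL)
open Cfsg.Agent.Omega.NatPair (ap ap_mul ap_one ap_inv_ap exists_ap)
open Cfsg.Agent.Lib.SL2Mat
open Cfsg.Agent.Omega.NOThreeL.ThmAx (Full IsAx TT YY mem_smul IsAx.smul)
open Cfsg.Agent.Omega.NOThreeL.RSplit.TransRt (Axs)
open Cfsg.Agent.Omega.NOThreeL.RBig (Trans.Sit)
open scoped Pointwise

universe u

/-! ### A full vector is not fixed by `N` -/

section abstract

variable {H M : Type*} [Group H] [AddCommGroup M] [DistribMulAction H M]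
variable {ι : Type*} [Fintype ι] {T : ι → Subgroup H} {Ax R : ι → AddSubgroup M}

theorem full_not_mem [Finite H] [Finite M] (D : Root.Rt T Ax R) {z : M}
    (Q : Trans.Sit (Axs H Ax) (TT T Ax) (YY H Ax R) z)
    (ind : ∀ f : ι → M, (∀ i, f i ∈ R i) → ∑ i, f i = 0 → ∀ i, f i = 0) {r : M} (hr : Full R r) (i₀ : ι) :
    ∃ (x : H) (i : ι), r ∉ x • Ax i := by
  classical
  by_contra hcon
  push Not at hcon
  obtain ⟨f, hf, rfl⟩ := hr
  set c := RBig.Trans.Cp (Axs H Ax) (YY H Ax R) (Ax i₀) with hc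
  have hA : ∀ i, Ax i ∈ Axs H Ax := fun i => ⟨1, i, one_smul _ _⟩
  let f' : ι → M := fun i => if Ax i ∈ c then f i else 0
  have hfUC : ∀ i, f i ∈ RBig.Trans.UC (Axs H Ax) (YY H Ax R) (Ax i) := fun i =>
    RBig.Trans.AxSys.YY_le_UC (RBig.Trans.AxSys.self_mem (hA i)) (Root.Rt.R_le_YY i (hf i).1)
  have h1 : ∑ i, f' i = 0 := by
    refine Q.inf (hA i₀) (AddSubgroup.sum_mem _ fun i _ => ?_) fun g hg => ?_
    · by_cases hi : Ax i ∈ c
      · have := hfUC i
        rw [Q.UC_eq hi] at this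
        simpa [f', hi] using this
      · simp [f', hi]
    · have hgA := Q.mem_A hg
      have h2 : ∑ i, f i - ∑ i, f' i ∈ g := by
        rw [← Finset.sum_sub_distrib]
        refine g.sum_mem fun i _ => ?_
        by_cases hi : Ax i ∈ c
        · simp [f', hi]
        · have h3 : g ∉ RBig.Trans.Cp (Axs H Ax) (YY H Ax R) (Ax i) := by
            intro h4
            apply hi
            rw [hc, ← Q.Cp_eq hg, Q.Cp_eq h4]
            exact RBig.Trans.AxSys.self_mem (hA i)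
          have h5 := Q.UC_le hgA h3 (hfUC i)
          simpa [f', hi] using h5
      obtain ⟨x, i, hx⟩ := hgA
      have h3 : ∑ i, f i ∈ g := hx ▸ hcon x i
      have h4 := g.sub_mem h3 h2
      rwa [sub_sub_cancel] at h4
  have h2 := ind f' (fun i => by
    by_cases hi : Ax i ∈ c
    · simpa [f', hi] using (hf i).1
    · simp [f', hi]) h1 i₀
  have h3 : Ax i₀ ∈ c := RBig.Trans.AxSys.self_mem (hA i₀)
  simp only [f', h3, if_true] at h2
  exact (hf i₀).2 h2

end abstract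

variable {G : Type u} [Group G] {F : Type} [Field F] {k : ℕ}

/-- `H` is minimal with `[V, U_H] ≠ 1`. -/
structure MinA (S P H : Subgroup G) : Prop extends PairA S P H where
  min : ∀ H₁ : Subgroup G, IsLong S H₁ → H₁ ≤ H → H₁ ≠ H → zl S P ≤ centralizer (zl S H₁ : Set G)

theorem exists_minA [Finite G] {S : Sylow 2 G} {P H : Subgroup G} (E : PairA (S : Subgroup G) P H) :
    ∃ H₁ ≤ H, MinA (S : Subgroup G) P H₁ := by
  let s : Set (Subgroup G) := {H' | H' ≤ H ∧ PairA (S : Subgroup G) P H'}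
  obtain ⟨H₁, h1⟩ := (Set.toFinite s).exists_minimal ⟨H, le_rfl, E⟩
  refine ⟨H₁, h1.prop.1, h1.prop.2, fun H' hL hle hne => ?_⟩
  by_contra hcon
  exact hne (le_antisymm hle (h1.le_of_le ⟨hle.trans h1.prop.1, ⟨E.par, hL, hcon⟩⟩ hle))

namespace Hyp

variable [Finite G] {S : Sylow 2 G} {P H D V₀ : Subgroup G}
variable {M : NatK F (S : Subgroup G) P (zl (S : Subgroup G) P) D k} (h : Hyp M V₀)

/-- `N_i` as a subgroup of `H` -/
abbrev TH (M : NatK F (S : Subgroup G) P (zl (S : Subgroup G) P) D k) (V₀ H : Subgroup G) (i : Fin k) :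
    Subgroup H := (nn M V₀ i).subgroupOf H

/-- the axes `C_U(N_i)` -/
abbrev Ax (E : PairA (S : Subgroup G) P H) (i : Fin k) : AddSubgroup (h.nrm E).Mod :=
  (h.nrm E).ad (centralizer (nn M V₀ i : Set G))

/-- the centres `R_i` -/
abbrev R (E : PairA (S : Subgroup G) P H) (i : Fin k) : AddSubgroup (h.nrm E).Mod :=
  (h.nrm E).ad (rr M V₀ i)

include h

/-! ### `V₀` is the product of the `N_i` -/

theorem V0_le : V₀ ≤ ⨆ i, nn M V₀ i := by
  classical
  have key : ∀ s : Finset (Fin k), ∀ w ∈ V₀, (∀ j, j ∉ s → M.e w j = 0) → w ∈ ⨆ i, nn M V₀ i := by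
    intro s
    induction s using Finset.induction_on with
    | empty =>
      intro w hw h0
      have : w = 1 := h.inj hw (one_mem _) (by
        rw [RStr.e_one M]
        funext j
        exact h0 j (Finset.notMem_empty j))
      rw [this]
      exact one_mem _
    | insert i s his ih =>
      intro w hw h0
      obtain ⟨v, hv, he⟩ := h.exists_nn i (M.e w i)
      have h1 : w * v⁻¹ ∈ ⨆ i, nn M V₀ i := by
        refine ih _ (mul_mem hw (inv_mem hv.1)) fun j hj => ?_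
        rw [M.mul _ (h.V0V hw) _ (inv_mem hv.2.1), RStr.e_inv M hv.2.1, he, Pi.add_apply, Pi.neg_apply]
        by_cases hji : j = i
        · rw [hji, Pi.single_eq_same, add_neg_cancel]
        · rw [Pi.single_eq_of_ne hji, neg_zero, add_zero]
          exact h0 j (by rw [Finset.mem_insert]; tauto)
      have h2 := mul_mem h1 ((le_iSup (nn M V₀) i) hv)
      rwa [inv_mul_cancel_right] at h2
  intro w hw
  exact key Finset.univ w hw fun j hj => absurd (Finset.mem_univ j) hj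

/-! ### (1): `H = N C` -/

theorem NN_le_H (E : PairA (S : Subgroup G) P H) : NN (S : Subgroup G) P H ≤ H := NN_le fun x hx => by
  have h1 := conj_le_iff (g := x).2 (h.VH E)
  rwa [conj_eq_of_mem (Subgroup.le_normalizer hx)] at h1

theorem o2_cent (E : PairA (S : Subgroup G) P H) : o2 H ≤ centralizer (zl (S : Subgroup G) H : Set G) :=
  Cfsg.Agent.MinSimple.VModule.o2_le_centralizer_zl E.long.loc.le S.isPGroup'
    (MinSimple.Basic.not_dvd_relIndex S E.long.loc.le) (E.long.loc.char2 S h.hc)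

/-- `V ≤ O₂(K)`, `N ≤ K`: impossible -/
theorem not_le_o2 (E : PairA (S : Subgroup G) P H) {K : Subgroup G} (hK : NN (S : Subgroup G) P H ≤ K)
    (h2 : zl (S : Subgroup G) P ≤ o2 K) : False := by
  -- `V ≤ O₂(N) ≤ O₂(H)`
  have h3 : zl (S : Subgroup G) P ≤ o2 (NN (S : Subgroup G) P H) := by
    have h4 : o2 K ⊓ NN (S : Subgroup G) P H ≤ o2 (NN (S : Subgroup G) P H) := by
      refine le_o2 inf_le_right ((o2_isPGroup _).to_le inf_le_left) ?_
      intro g hg
      have h5 := le_normalizer_o2 K (hK hg)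
      rw [mem_normalizer_iff] at h5 ⊢
      intro x
      rw [mem_inf, mem_inf, h5 x, mem_normalizer_iff.mp (Subgroup.le_normalizer hg) x]
    exact (le_inf h2 (le_NN _ _ _)).trans h4
  have h6 : o2 (NN (S : Subgroup G) P H) ≤ o2 H := by
    refine le_o2 ((Cfsg.Agent.MinSimple.VModule.o2_le _).trans (h.NN_le_H E)) (o2_isPGroup _) ?_
    refine (le_normalizer_NN (S : Subgroup G) P H).trans ?_
    exact Cfsg.Agent.Omega.normalizer_le_normalizer_o2' _
  exact E.ne ((h3.trans h6).trans (h.o2_cent E))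

/-- **(1)** `H = N C` -/
theorem le_sup (E : MinA (S : Subgroup G) P H) : H ≤ NN (S : Subgroup G) P H ⊔ CZ (S : Subgroup G) := by
  by_contra hcon
  set H₁ := NN (S : Subgroup G) P H ⊔ CZ (S : Subgroup G) with hH1
  have hle : H₁ ≤ H := sup_le (h.NN_le_H E.toPairA) E.long.cz
  have hne : H₁ ≠ H := fun h => hcon (by rw [h])
  have hl : IsLong (S : Subgroup G) H₁ :=
    ⟨E.long.loc.of_le S ((le_CZ S).trans le_sup_right) hle, le_sup_right⟩
  exact h.not_le_o2 E.toPairA le_sup_left (le_o2_of_comm (h.data.low P h.par) hl (E.min H₁ hl hle hne))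

theorem exists_nc (E : MinA (S : Subgroup G) P H) {x : G} (hx : x ∈ H) :
    ∃ n ∈ NN (S : Subgroup G) P H, ∃ c ∈ CZ (S : Subgroup G), x = n * c := by
  have hn : CZ (S : Subgroup G) ≤ normalizer (NN (S : Subgroup G) P H : Set G) :=
    E.long.cz.trans (le_normalizer_NN _ _ _)
  have h1 : x ∈ ((NN (S : Subgroup G) P H ⊔ CZ (S : Subgroup G) : Subgroup G) : Set G) := h.le_sup E hx
  rw [coe_mul_of_right_le_normalizer_left _ _ hn] at h1
  obtain ⟨n, hn, c, hc, rfl⟩ := Set.mem_mul.mp h1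
  exact ⟨n, hn, c, hc, rfl⟩

variable [CharP F 2]

/-- `N` acts on `U` as the abstract group `⟨x T_i x⁻¹⟩` -/
theorem exists_NN (E : PairA (S : Subgroup G) P H) {x : G} (hx : x ∈ NN (S : Subgroup G) P H) :
    ∃ hxH : x ∈ H, ∃ n ∈ RBig.Trans.NN (Axs H (h.Ax E)) (TT (TH M V₀ H) (h.Ax E)),
      ∀ m : (h.nrm E).Mod, (⟨x, hxH⟩ : H) • m = n • m := by
  set NA := RBig.Trans.NN (Axs H (h.Ax E)) (TT (TH M V₀ H) (h.Ax E)) with hNA
  let K : Subgroup H :=
    { carrier := {x | ∃ n ∈ NA, ∀ m : (h.nrm E).Mod, x • m = n • m}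
      one_mem' := ⟨1, one_mem _, fun _ => rfl⟩
      mul_mem' := by
        rintro a b ⟨n, hn, h1⟩ ⟨n', hn', h2⟩
        exact ⟨n * n', mul_mem hn hn', fun m => by rw [mul_smul, mul_smul, h2, h1]⟩
      inv_mem' := by
        rintro a ⟨n, hn, h1⟩
        exact ⟨n⁻¹, inv_mem hn, fun m => by rw [inv_smul_eq_iff, h1, smul_inv_smul]⟩ }
  have h1 : NN (S : Subgroup G) P H ≤ K.map H.subtype := by
    refine NN_le fun y hy v hv => ?_
    rw [mem_conj] at hv
    -- `V₀`
    have h2 : V₀ ≤ ((K.map H.subtype).comap (MulAut.conj y).toMonoidHom) := by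
      refine h.V0_le.trans (iSup_le fun i w hw => ?_)
      have hwH : w ∈ H := h.VH E hw.2.1
      refine ⟨⟨y, hy⟩ * ⟨w, hwH⟩ * ⟨y, hy⟩⁻¹, ⟨_, ?_, fun _ => rfl⟩, rfl⟩
      exact TransRt.conj_mem_NN (T := TH M V₀ H) (Ax := h.Ax E) (i := i) (mem_subgroupOf.2 hw)
    obtain ⟨w, hw, d, hd, he⟩ := h.exists_mul hv
    have h3 : y * w * y⁻¹ ∈ K.map H.subtype := h2 hw
    have hdH : d ∈ H := h.VH E (h.DV hd)
    have h4 : y * d * y⁻¹ ∈ K.map H.subtype := by
      refine ⟨⟨y, hy⟩ * ⟨d, hdH⟩ * ⟨y, hy⟩⁻¹, ⟨1, one_mem _, fun m => ?_⟩, rfl⟩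
      rw [one_smul, mul_smul, mul_smul]
      have h5 : ∀ m : (h.nrm E).Mod, (⟨d, hdH⟩ : H) • m = m := fun m => Nrm.ext (by
        rw [Nrm.val_smul]
        have h6 := mem_centralizer_iff.1 (h.D_le_cent hd) _ (h.UP E (Nrm.val_mem _ m))
        change d * _ * d⁻¹ = _
        rw [← h6, mul_inv_cancel_right])
      rw [h5, smul_inv_smul]
    have h5 := mul_mem h3 h4
    have e : y * w * y⁻¹ * (y * d * y⁻¹) = v := by
      have : w * d = y⁻¹ * v * y := he.symm
      calc y * w * y⁻¹ * (y * d * y⁻¹) = y * (w * d) * y⁻¹ := by group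
        _ = v := by rw [this]; group
    rwa [e] at h5
  obtain ⟨⟨x', hx'⟩, hxK, rfl⟩ := h1 hx
  exact ⟨hx', hxK⟩

/-- the element of the module -/
theorem Z_le_U (E : PairA (S : Subgroup G) P H) : zc (S : Subgroup G) ≤ zl (S : Subgroup G) H := zc_le_zl _ _

/-- **The situation `Sit`** for `z ∈ Z` -/
theorem sit (E : MinA (S : Subgroup G) P H) {z : G} (hz : z ∈ zc (S : Subgroup G))
    (hne : ∃ (x : H) (i : Fin k), (h.nrm E.toPairA).of z (zc_le_zl _ _ hz) ∉ x • h.Ax E.toPairA i) :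
    Trans.Sit (Axs H (h.Ax E.toPairA)) (TT (TH M V₀ H) (h.Ax E.toPairA)) (YY H (h.Ax E.toPairA) (h.R E.toPairA))
      ((h.nrm E.toPairA).of z (zc_le_zl _ _ hz)) := by
  refine TransRt.sit (h.rt E.toPairA) (h.big' E.toPairA) ?_ ?_ hne
  · refine ⟨S.subtype E.long.loc.le, fun s hs => Nrm.ext ?_⟩
    rw [Nrm.val_smul, Nrm.val_of]
    have h1 : (s : G) ∈ (S : Subgroup G) := hs
    rw [(mem_zc.1 hz).2.1 _ h1, mul_inv_cancel_right]
  · rintro ⟨x, hx⟩
    obtain ⟨n, hn, c, hcc, rfl⟩ := h.exists_nc E hx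
    obtain ⟨hnH, n', hn', h1⟩ := h.exists_NN E.toPairA hn
    refine ⟨n', hn', ?_⟩
    have hcH : c ∈ H := E.long.cz hcc
    have h2 : (⟨c, hcH⟩ : H) • (h.nrm E.toPairA).of z (zc_le_zl _ _ hz) =
        (h.nrm E.toPairA).of z (zc_le_zl _ _ hz) := Nrm.ext (by
      rw [Nrm.val_smul, Nrm.val_of]
      change c * z * c⁻¹ = z
      rw [← mem_centralizer_iff.1 hcc z hz, mul_inv_cancel_right])
    have h3 : (⟨n * c, hx⟩ : H) = ⟨n, hnH⟩ * ⟨c, hcH⟩ := rfl
    rw [h3, mul_smul, mul_smul, h2, h1, inv_smul_smul]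

/-- some `z ∈ Z` is not fixed by `N` -/
theorem exists_z (E : PairA (S : Subgroup G) P H) : ∃ z, ∃ hz : z ∈ zc (S : Subgroup G), ∃ (x : H) (i : Fin k),
    (h.nrm E).of z (zc_le_zl _ _ hz) ∉ x • h.Ax E i := by
  by_contra hcon
  push Not at hcon
  -- `U ≤ I`
  set I : Subgroup G := ⨅ x : H, ⨅ i : Fin k, MulAut.conj (x : G) • centralizer (nn M V₀ i : Set G) with hI
  have h1 : zl (S : Subgroup G) H ≤ I := by
    refine zl_le (fun z hz => ?_) ?_
    · rw [hI, mem_iInf]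
      intro x
      rw [mem_iInf]
      intro i
      have := hcon z hz x i
      rw [Nrm.smul_ad] at this
      exact this
    · intro g hg
      refine RTransv.mem_normalizer_of_conj ?_
      have key : ∀ g ∈ H, MulAut.conj g • I ≤ I := by
        intro g hg y hy
        rw [mem_conj, hI, mem_iInf] at hy
        rw [hI, mem_iInf]
        intro x
        rw [mem_iInf]
        intro i
        have h2 := hy (⟨g, hg⟩⁻¹ * x)
        rw [mem_iInf] at h2
        have h3 := h2 i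
        rw [mem_conj] at h3 ⊢
        have e : ((⟨g, hg⟩⁻¹ * x : H) : G) = g⁻¹ * x := rfl
        rw [e] at h3
        have e2 : (g⁻¹ * (x : G))⁻¹ * (g⁻¹ * y * g) * (g⁻¹ * (x : G)) = (x : G)⁻¹ * y * x := by group
        rwa [e2] at h3
      refine le_antisymm (key g hg) ?_
      have h2 := (conj_le_iff (g := g)).2 (key g⁻¹ (inv_mem hg))
      rwa [conj_conj, mul_inv_cancel, map_one, one_smul] at h2
  obtain ⟨u, hu, huc⟩ := h.exists_u E ⟨0, h.kpos⟩
  have h2 := h1 hu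
  rw [hI, mem_iInf] at h2
  have h3 := h2 1
  rw [mem_iInf] at h3
  have h4 := h3 ⟨0, h.kpos⟩
  rw [OneMemClass.coe_one, map_one, one_smul] at h4
  exact huc h4

/-! ### Full vectors -/

/-- coordinates of a sum of elements of `V₀` -/
theorem e_sum (E : PairA (S : Subgroup G) P H) {ι : Type*} (s : Finset ι) (f : ι → (h.nrm E).Mod)
    (hf : ∀ i ∈ s, (h.nrm E).val (f i) ∈ V₀) :
    (h.nrm E).val (∑ i ∈ s, f i) ∈ V₀ ∧ M.e ((h.nrm E).val (∑ i ∈ s, f i)) = ∑ i ∈ s, M.e ((h.nrm E).val (f i)) := by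
  classical
  induction s using Finset.induction_on with
  | empty =>
    rw [Finset.sum_empty, Finset.sum_empty, Nrm.val_zero]
    exact ⟨one_mem _, RStr.e_one M⟩
  | insert i s his ih =>
    obtain ⟨h1, h2⟩ := ih fun i hi => hf i (Finset.mem_insert_of_mem hi)
    have h3 := hf i (Finset.mem_insert_self _ _)
    rw [Finset.sum_insert his, Finset.sum_insert his, Nrm.val_add, M.mul _ (h.V0V h3) _ (h.V0V h1), h2]
    exact ⟨mul_mem h3 h1, rfl⟩

/-- the `R_i` are independent -/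
theorem ind (E : PairA (S : Subgroup G) P H) (f : Fin k → (h.nrm E).Mod) (hf : ∀ i, f i ∈ h.R E i)
    (h0 : ∑ i, f i = 0) (i : Fin k) : f i = 0 := by
  obtain ⟨-, h2⟩ := h.e_sum E Finset.univ f fun i _ => (hf i).1.1
  rw [h0, Nrm.val_zero, RStr.e_one M] at h2
  have h3 := congrFun h2 i
  rw [Finset.sum_apply, Finset.sum_eq_single i] at h3
  · refine Nrm.eq_zero_iff.2 (h.inj (hf i).1.1 (one_mem _) ?_)
    rw [e_nn (hf i).1, ← h3, RStr.e_one M]
    exact Pi.single_zero _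
  · intro j _ hj
    exact (hf j).1.2.2 i (fun h => hj h.symm)
  · intro h
    exact absurd (Finset.mem_univ i) h

omit [CharP F 2] in
/-- coordinates of `1 ≠ z₀ ∈ V₀ ∩ Z` -/
theorem e_z0 (E : PairA (S : Subgroup G) P H) {z₀ : G} (h0 : z₀ ∈ V₀) (hz : z₀ ∈ zc (S : Subgroup G)) (h1 : z₀ ≠ 1)
    (i : Fin k) : M.e z₀ i 0 ≠ 0 ∧ M.e z₀ i 1 = 0 := by
  have h2 : M.e z₀ i 1 = 0 := by
    obtain ⟨t, ht, hb⟩ := M.unip fun _ => 1
    have h3 := hb.1 z₀ (h.V0V h0) i
    rw [(mem_zc.1 hz).2.1 t ht, mul_inv_cancel_right, RAOne.ap_up'] at h3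
    have h4 := congrFun h3 0
    simpa using h4
  have h3 : M.e z₀ i ≠ 0 := by
    intro h4
    apply h1
    refine h.inj h0 (one_mem _) ?_
    rw [RStr.e_one M]
    funext j
    obtain ⟨s, hs, h5⟩ := M.trans i j
    have h6 := (h5 z₀ (h.V0V h0)).2 h4
    rwa [(mem_zc.1 hz).2.1 s hs, mul_inv_cancel_right] at h6
  refine ⟨fun h4 => h3 ?_, h2⟩
  funext l
  fin_cases l
  · exact h4
  · exact h2

/-- a vector of `V₀` on the lines, with all components `≠ 0`, is full -/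
theorem full_of (E : PairA (S : Subgroup G) P H) {r : G} (h0 : r ∈ V₀) (hrU : r ∈ zl (S : Subgroup G) H)
    (h1 : ∀ i, M.e r i 0 ≠ 0 ∧ M.e r i 1 = 0) : Full (h.R E) ((h.nrm E).of r hrU) := by
  choose f hf he using fun i => h.exists_rr i (M.e r i 0)
  refine ⟨fun i => (h.nrm E).of (f i) (h.rr_le_U E i (hf i)), fun i => ⟨hf i, fun h2 => ?_⟩, ?_⟩
  · rw [Nrm.eq_zero_iff, Nrm.val_of] at h2
    have h3 := he i
    rw [h2, RStr.e_one M] at h3
    have h4 := congrFun (congrFun h3 i) 0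
    rw [Pi.single_eq_same] at h4
    exact (h1 i).1 h4.symm
  · have h2 := h.e_sum E Finset.univ (fun i => (h.nrm E).of (f i) (h.rr_le_U E i (hf i))) fun i _ => (hf i).1.1
    refine Nrm.ext (h.inj h0 h2.1 ?_)
    rw [h2.2, Nrm.val_of]
    funext i
    rw [Finset.sum_apply, Finset.sum_eq_single i]
    · rw [Nrm.val_of, he, Pi.single_eq_same]
      funext l
      fin_cases l
      · rfl
      · exact (h1 i).2
    · intro j _ hj
      rw [Nrm.val_of, he, Pi.single_eq_of_ne hj.symm]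
    · intro h
      exact absurd (Finset.mem_univ i) h

omit [CharP F 2] in
theorem exists_z0 : ∃ z₀ ∈ V₀, z₀ ∈ zc (S : Subgroup G) ∧ z₀ ≠ 1 := by
  have hne : V₀ ≠ ⊥ := by
    intro h0
    obtain ⟨v, hv, he⟩ := h.surj (Pi.single ⟨0, h.kpos⟩ ![1, 0])
    rw [h0, mem_bot] at hv
    rw [hv, RStr.e_one M] at he
    have h1 := congrFun (congrFun he ⟨0, h.kpos⟩) 0
    rw [Pi.single_eq_same] at h1
    exact zero_ne_one h1
  obtain ⟨x, hx, hx1, hxS⟩ := NoFF.LinesPlug.exists_fixed S.isPGroup' (h.V0V.trans h.VS) (h.SP.trans h.PV0) hne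
  refine ⟨x, hx, mem_zc.2 ⟨h.VS (h.V0V hx), fun s hs => hxS s hs, ?_⟩, hx1⟩
  rw [pow_two, h.sqV (h.V0V hx)]

/-- **(3)** -/
theorem three {z₀ : G} (h0 : z₀ ∈ V₀) (hz : z₀ ∈ zc (S : Subgroup G)) (h1 : z₀ ≠ 1) :
    zl (S : Subgroup G) P ≤ o2 (centralizer ({z₀} : Set G)) := by
  by_contra hcon
  have hL : IsLong (S : Subgroup G) (centralizer ({z₀} : Set G)) := isLong S hz h1
  have E : PairA (S : Subgroup G) P (centralizer ({z₀} : Set G)) :=
    ⟨h.par, hL, fun h2 => hcon (le_o2_of_comm (h.data.low P h.par) hL h2)⟩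
  obtain ⟨H', hH', E'⟩ := exists_minA E
  obtain ⟨z, hzz, hne⟩ := h.exists_z E'.toPairA
  have Q := h.sit E' hzz hne
  have hfull := h.full_of E'.toPairA h0 (zc_le_zl _ _ hz) (h.e_z0 E'.toPairA h0 hz h1)
  obtain ⟨x, i, hx⟩ := full_not_mem (h.rt E'.toPairA) Q (h.ind E'.toPairA) hfull ⟨0, h.kpos⟩
  apply hx
  rw [Nrm.smul_ad, Nrm.mem_ad, Nrm.val_of, mem_conj]
  have h2 : (x : G)⁻¹ * z₀ * x = z₀ := by
    have h3 := mem_centralizer_iff.1 (hH' x.2) z₀ rfl
    rw [mul_assoc, h3, inv_mul_cancel_left]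
  rw [h2, mem_centralizer_iff]
  intro v hv
  exact h.commV hv.2.1 (h.V0V h0)

/-- full vectors of `V₀` are conjugate to `z₀` under `P` -/
theorem exists_conj {r z₀ : G} (hr : r ∈ V₀) (hr1 : ∀ i, M.e r i 0 ≠ 0 ∧ M.e r i 1 = 0) (h0 : z₀ ∈ V₀)
    (h1 : ∀ i, M.e z₀ i 0 ≠ 0 ∧ M.e z₀ i 1 = 0) : ∃ b ∈ P, b * z₀ * b⁻¹ = r := by
  have h2 : ∀ i, ∃ A : Matrix.SpecialLinearGroup (Fin 2) F, ap A (M.e z₀ i) = M.e r i := fun i =>
    exists_ap (fun h3 => (h1 i).1 (by rw [h3]; rfl)) (fun h3 => (hr1 i).1 (by rw [h3]; rfl))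
  choose A hA using h2
  obtain ⟨b, hb, hbA⟩ := M.lift A
  refine ⟨b, hb, h.inj (h.conV0 hb h0) hr ?_⟩
  funext i
  rw [hbA.1 z₀ (h.V0V h0) i, hA]

/-- **NOFF for full vectors** -/
theorem comm_of_full {r t : G} (hr : r ∈ V₀) (hr1 : ∀ i, M.e r i 0 ≠ 0 ∧ M.e r i 1 = 0) (ht : t * r = r * t) :
    MulAut.conj t • zl (S : Subgroup G) P ≤ centralizer (zl (S : Subgroup G) P : Set G) := by
  obtain ⟨z₀, h0, hz, h1⟩ := h.exists_z0
  have E₀ : ∀ i, M.e z₀ i 0 ≠ 0 ∧ M.e z₀ i 1 = 0 := by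
    have h2 : ∀ i, M.e z₀ i 1 = 0 := fun i => by
      obtain ⟨t, ht, hb⟩ := M.unip fun _ => 1
      have h3 := hb.1 z₀ (h.V0V h0) i
      rw [(mem_zc.1 hz).2.1 t ht, mul_inv_cancel_right, RAOne.ap_up'] at h3
      have h4 := congrFun h3 0
      simpa using h4
    intro i
    have h3 : M.e z₀ i ≠ 0 := by
      intro h4
      apply h1
      refine h.inj h0 (one_mem _) ?_
      rw [RStr.e_one M]
      funext j
      obtain ⟨s, hs, h5⟩ := M.trans i j
      have h6 := (h5 z₀ (h.V0V h0)).2 h4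
      rwa [(mem_zc.1 hz).2.1 s hs, mul_inv_cancel_right] at h6
    refine ⟨fun h4 => h3 ?_, h2 i⟩
    funext l
    fin_cases l
    · exact h4
    · exact h2 i
  obtain ⟨b, hb, hbr⟩ := h.exists_conj hr hr1 h0 E₀
  have hVS := h.VS
  -- `t' = b⁻¹ t b ∈ C(z₀)`
  set t' := b⁻¹ * t * b with ht'
  have hV := h.three h0 hz h1
  have hL : IsLong (S : Subgroup G) (centralizer ({z₀} : Set G)) := isLong S hz h1
  have ht'c : t' ∈ centralizer ({z₀} : Set G) := by
    rw [mem_centralizer_singleton_iff]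
    have h2 : z₀ = b⁻¹ * r * b := by rw [← hbr]; group
    rw [h2, ht']
    have e1 : b⁻¹ * t * b * (b⁻¹ * r * b) = b⁻¹ * (t * r) * b := by group
    have e2 : b⁻¹ * r * b * (b⁻¹ * t * b) = b⁻¹ * (r * t) * b := by group
    rw [e1, e2, ht]
  have hoS : o2 (centralizer ({z₀} : Set G)) ≤ (S : Subgroup G) := hL.loc.o2_le S
  have hVt : MulAut.conj t' • zl (S : Subgroup G) P ≤ o2 (centralizer ({z₀} : Set G)) := by
    have h2 := (conj_le_iff (g := t')).2 hV
    rwa [conj_eq_of_mem (le_normalizer_o2 _ ht'c)] at h2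
  have D' := GeoLow.geo h.hc h.data
  have h2 : MulAut.conj t' • zl (S : Subgroup G) P ≤ centralizer (zl (S : Subgroup G) P : Set G) := by
    have h2 := D'.noff' h.par h.par (g := t') (h := 1)
      (by
        rw [map_one, one_smul]
        exact (hVt.trans hoS).trans h.SP)
      (by
        rw [map_one, one_smul]
        have h3 : zl (S : Subgroup G) P ≤ MulAut.conj t' • o2 (centralizer ({z₀} : Set G)) := by
          rw [conj_eq_of_mem (le_normalizer_o2 _ ht'c)]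
          exact hV
        exact h3.trans (conj_le_iff.2 (hoS.trans h.SP)))
    rw [map_one, one_smul] at h2
    exact h2
  -- conjugate back by `b`
  have h3 := conj_le_centralizer (g := b) h2
  rw [conj_eq_of_mem (le_normalizer_zl _ _ hb), conj_conj] at h3
  have e : b * t' = t * b := by rw [ht']; group
  rwa [e, ← conj_conj, conj_eq_of_mem (le_normalizer_zl _ _ hb)] at h3

/-- **`Root.Ex`** for every `H`. -/
theorem ex (E : PairA (S : Subgroup G) P H) : Root.Ex (TH M V₀ H) (h.Ax E) (h.R E) where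
  toRt := h.rt E
  card := fun i j => h.card_quot_le E i j
  big := h.big' E
  noff := by
    rintro r ⟨f, hf, rfl⟩ t ht l r' hr' i
    obtain ⟨h1, h2⟩ := h.e_sum E Finset.univ f fun i _ => (hf i).1.1.1
    set r := ∑ i, f i with hrdef
    have h3 : ∀ i, M.e ((h.nrm E).val r) i 0 ≠ 0 ∧ M.e ((h.nrm E).val r) i 1 = 0 := by
      intro i
      have h4 : M.e ((h.nrm E).val r) i = M.e ((h.nrm E).val (f i)) i := by
        rw [h2, Finset.sum_apply, Finset.sum_eq_single i]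
        · intro j _ hj
          exact (hf j).1.1.2.2 i (fun h => hj h.symm)
        · intro h
          exact absurd (Finset.mem_univ i) h
      rw [h4]
      refine ⟨fun h5 => (hf i).2 ?_, (hf i).1.2⟩
      refine Nrm.eq_zero_iff.2 (h.inj (hf i).1.1.1 (one_mem _) ?_)
      rw [e_nn (hf i).1.1, RStr.e_one M]
      have h6 : M.e ((h.nrm E).val (f i)) i = 0 := by
        funext l
        fin_cases l
        · exact h5
        · exact (hf i).1.2
      rw [h6]
      exact Pi.single_zero _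
    have h4 : (t : G) * (h.nrm E).val r = (h.nrm E).val r * t := by
      have h5 := Nrm.ext_iff.1 ht
      rw [Nrm.val_smul] at h5
      exact mul_inv_eq_iff_eq_mul.1 h5
    have h5 := h.comm_of_full h1 h3 h4
    rw [Nrm.mem_ad, Nrm.val_smul, mem_centralizer_iff]
    intro v hv
    have h6 : (t : G) * (h.nrm E).val r' * (t : G)⁻¹ ∈ MulAut.conj (t : G) • zl (S : Subgroup G) P := by
      rw [mem_conj]
      have e : (t : G)⁻¹ * (t * (h.nrm E).val r' * (t : G)⁻¹) * t = (h.nrm E).val r' := by group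
      rw [e]
      exact hr'.1.2.1
    exact mem_centralizer_iff.1 (h5 h6) v hv.2.1
  nt := by
    intro i
    by_contra hcon
    push Not at hcon
    obtain ⟨z₀, h0, hz, h1⟩ := h.exists_z0
    have hE := h.e_z0 E h0 hz h1
    -- all `R j` are fixed by `N`
    have h2 : ∀ j, ∀ g, IsAx (H := H) (h.Ax E) g → h.R E j ≤ g := by
      intro j g hg
      obtain ⟨s, hs, rfl⟩ := h.exists_S i j
      have h3 := hcon _ (hg.smul (⟨s, E.long.loc.le hs⟩ : H)⁻¹)
      intro m hm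
      have h4 : (⟨s, E.long.loc.le hs⟩ : H)⁻¹ • m ∈ h.R E i := by
        rw [Nrm.mem_ad] at hm ⊢
        rw [Nrm.val_smul]
        rw [← h.conj_rr hs i, mem_conj] at hm
        rw [InvMemClass.coe_inv, inv_inv]
        exact hm
      have h5 := h3 h4
      rwa [mem_smul, inv_inv, smul_inv_smul] at h5
    -- `z₀` is fixed by `N`
    have hfull := h.full_of E h0 (zc_le_zl _ _ hz) hE
    obtain ⟨f, hf, he⟩ := hfull
    have h3 : ∀ g, IsAx (H := H) (h.Ax E) g → (h.nrm E).of z₀ (zc_le_zl _ _ hz) ∈ g := by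
      intro g hg
      rw [he]
      exact g.sum_mem fun j _ => h2 j g hg (hf j).1
    have h4 : NN (S : Subgroup G) P H ≤ centralizer ({z₀} : Set G) := by
      intro x hx
      obtain ⟨hxH, n, hn, h5⟩ := h.exists_NN E hx
      have h6 := ((TransRt.axSys (h.rt E) (h.big' E)).fixed_iff
        (u := (h.nrm E).of z₀ (zc_le_zl _ _ hz))).1 (fun g hg => h3 g hg) n hn
      rw [mem_centralizer_singleton_iff]
      have h7 := h5 ((h.nrm E).of z₀ (zc_le_zl _ _ hz))
      rw [h6] at h7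
      have h8 := Nrm.ext_iff.1 h7
      rw [Nrm.val_smul, Nrm.val_of] at h8
      exact mul_inv_eq_iff_eq_mul.1 h8
    exact h.not_le_o2 E h4 (h.three h0 hz h1)

/-- **THEOREM EXACT WITH RADICAL.** -/
theorem exact (E : PairA (S : Subgroup G) P H) (i : Fin k) {u : G} (hu : u ∈ zl (S : Subgroup G) H) :
    ∃ v ∈ zl (S : Subgroup G) H, (∀ l, l ≠ i → v ∈ centralizer (nn M V₀ l : Set G)) ∧
      v * u ∈ centralizer (nn M V₀ i : Set G) := by
  obtain ⟨v, h1, h2⟩ := (h.ex E).exact i ((h.nrm E).of u hu)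
  exact ⟨(h.nrm E).val v, Nrm.val_mem _ v, fun l hl => h1 l hl, h2⟩

end Hyp

end Cfsg.Agent.Omega.NOThreeL.RSplit

end

section


/-!
# NO-3L, box R ∩ (A), `q > 2`, `V_P` split (#19602): the hypothesis `free`

`Hyp.free` : an element of `N_i` which fixes an element of `U = zl S H` outside `C_U(N_i)` is trivial on `U`; so it is
the hypothesis `free` of RSplit/FrameOf.lean, ManyAx.lean, QuadAll.lean, QuadFv.lean for the instance `Hyp.rt`.
`Hyp.free_ad` : group form.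
-/

set_option autoImplicit false
set_option linter.unusedSectionVars false

namespace Cfsg.Agent.Omega.NOThreeL.RSplit

open Subgroup Cfsg Cfsg.Agent.Omega.MinPar
open Cfsg.Agent.ZN (zc zl o2)
open Cfsg.Agent.Omega.Node.NO3L Cfsg.Agent.Omega.NOThreeL.Basic
open Cfsg.Agent.Omega.FFThm (Off NatK ActsSL)
open scoped Pointwise

universe u

variable {G : Type u} [Group G] {F : Type} [Field F] {k : ℕ}

namespace Hyp

variable [Finite G] {S : Sylow 2 G} {P H D V₀ : Subgroup G}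
variable {M : NatK F (S : Subgroup G) P (zl (S : Subgroup G) P) D k} (h : Hyp M V₀)
include h

variable [CharP F 2] (E : PairA (S : Subgroup G) P H)
include E

/-- if `v ∈ N_i` commutes with `u ∈ U - C(N_i)`, then `v ∈ C(U)` -/
theorem free_ad {i : Fin k} {v u : G} (hv : v ∈ nn M V₀ i) (hu : u ∈ zl (S : Subgroup G) H)
    (huc : u ∉ centralizer (nn M V₀ i : Set G)) (hvu : v * u = u * v) :
    ∀ m ∈ zl (S : Subgroup G) H, v * m = m * v := by
  obtain ⟨β, hβ, -⟩ := h.exists_beta E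
  have h0 : β u i ≠ 0 := fun h1 => huc ((h.mem_cent_iff E hβ hu).2 h1)
  have h1 : v * u * v⁻¹ * u⁻¹ = 1 := by rw [hvu]; group
  have h2 : M.e v i 1 = 0 := by
    have h3 := (h.cm_aux E hβ hu hv).2
    rw [h1, RStr.e_one M] at h3
    have h4 := congrFun (congrFun h3 i) 0
    rw [Pi.single_eq_same] at h4
    have h5 : β u i * M.e v i 1 = 0 := h4.symm
    exact (mul_eq_zero.1 h5).resolve_left h0
  intro m hm
  obtain ⟨h3, h4⟩ := h.cm_aux E hβ hm hv
  have h5 : v * m * v⁻¹ * m⁻¹ = 1 := by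
    refine h.inj h3.1 (one_mem _) ?_
    rw [h4, RStr.e_one M, h2, mul_zero]
    funext j l
    by_cases hj : j = i
    · subst hj
      rw [Pi.single_eq_same]
      fin_cases l <;> rfl
    · rw [Pi.single_eq_of_ne hj]
      rfl
  exact commutatorElement_eq_one_iff_mul_comm.1 h5

/-- **The hypothesis `free`** for the instance `Hyp.rt`. -/
theorem free : ∀ i, ∀ t ∈ TH M V₀ H i, ∀ u : (h.nrm E).Mod, u ∉ h.Ax E i → t • u = u →
    ∀ m : (h.nrm E).Mod, t • m = m := by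
  intro i t ht u hu htu m
  have hv : (t : G) ∈ nn M V₀ i := mem_subgroupOf.1 ht
  have h1 : (t : G) * (h.nrm E).val u = (h.nrm E).val u * (t : G) := by
    have h2 := congrArg (h.nrm E).val htu
    rw [Nrm.val_smul, mul_inv_eq_iff_eq_mul] at h2
    exact h2
  have h3 := h.free_ad E hv (Nrm.val_mem _ u) (fun h4 => hu (Nrm.mem_ad.2 h4)) h1 _ (Nrm.val_mem _ m)
  refine Nrm.ext ?_
  rw [Nrm.val_smul, h3, mul_inv_cancel_right]

/-- the same for all conjugates -/
theorem free_conj (y : H) : ∀ i, ∀ t ∈ MulAut.conj y • TH M V₀ H i, ∀ u : (h.nrm E).Mod, u ∉ y • h.Ax E i →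
    t • u = u → ∀ m : (h.nrm E).Mod, t • m = m := by
  intro i t ht u hu htu m
  rw [Cfsg.Agent.Omega.NoFF.Basic.mem_conj] at ht
  have h1 := h.free E i _ ht (y⁻¹ • u) (fun h2 => hu (by
    rw [AddSubgroup.mem_smul_pointwise_iff_exists]
    exact ⟨_, h2, smul_inv_smul y u⟩)) (by
      rw [← mul_smul, mul_inv_cancel_right, mul_smul, htu]) (y⁻¹ • m)
  rw [← mul_smul, mul_inv_cancel_right, mul_smul] at h1
  exact MulAction.injective _ h1

end Hyp

end Cfsg.Agent.Omega.NOThreeL.RSplit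

end

section


/-!
# NO-3L, box R ∩ (A), `q > 2`, split (#19602, helper797): the opposite element, fields of `EndB`

`h : Hyp M V₀`, `E : PairA S P H`.

* `Hyp.mem_RR` : `[U, V] = {r ∈ V₀ | M.e r i 1 = 0}` `= R_1 × .. × R_k`;
* `Hyp.exists_upper` : `U` induces all upper unitriangular matrices;
* `Hyp.cent_bot` : `C_Z(P) ∩ C_Z(H) = 1`;
* **`Hyp.exists_opp`** : `w ∈ P` with the fields `Vw`, `Vw'`, `op`, `opR` of `EndB`.
-/

set_option autoImplicit false
set_option linter.unusedSectionVars false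

namespace Cfsg.Agent.Omega.NOThreeL.RSplit

open Subgroup Cfsg Cfsg.Agent.Omega.MinPar
open Cfsg.Agent.ZN (zc zl o2)
open Cfsg.Agent.Omega.Frame Cfsg.Agent.Omega.FrameNOFF
open Cfsg.Agent.Omega.Node.NO3L Cfsg.Agent.Omega.NOThreeL.Basic
open Cfsg.Agent.Omega.NoFF.Basic (conj_conj mem_conj conj_le_iff conj_le_centralizer comm_symm comm_mono)
open Cfsg.Agent.Omega.NOThreeL.Pair (conj_eq_of_mem conj_le_normalizer zl_abel)
open Cfsg.Agent.MinSimple.VModule (zl_le zc_le_zl le_normalizer_zl zc_le o2_isPGroup le_normalizer_o2 le_o2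
  normalizer_le_normalizer_zc mem_zc)
open Cfsg.Agent.Omega.NOThreeL.RTools (isLong)
open Cfsg.Agent.Omega.FFThm (Off NatK ActsSL)
open Cfsg.Agent.Omega.NatPair (ap ap_mul ap_one ap_inv_ap exists_ap)
open Cfsg.Agent.Lib.SL2Mat
open Cfsg.Agent.Omega.NOThreeL.RAOne (ap_up' ap_lo')
open Cfsg.Agent.Omega.NOThreeL.RSplit.EndB (RR)
open scoped Pointwise commutatorElement

universe u

variable {G : Type u} [Group G] {F : Type} [Field F] {k : ℕ}

namespace Hyp

variable [Finite G] {S : Sylow 2 G} {P H D V₀ : Subgroup G}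
variable {M : NatK F (S : Subgroup G) P (zl (S : Subgroup G) P) D k} (h : Hyp M V₀)
include h

/-- `{v ∈ V₀ | M.e v i 1 = 0}` -/
def ln (M : NatK F (S : Subgroup G) P (zl (S : Subgroup G) P) D k) (h : Hyp M V₀) : Subgroup G where
  carrier := {v | v ∈ V₀ ∧ ∀ i, M.e v i 1 = 0}
  one_mem' := ⟨one_mem _, fun i => by rw [RStr.e_one M]; rfl⟩
  mul_mem' := by
    rintro a b ⟨ha, ha'⟩ ⟨hb, hb'⟩
    refine ⟨mul_mem ha hb, fun i => ?_⟩
    rw [M.mul a (h.V0V ha) b (h.V0V hb), Pi.add_apply, Pi.add_apply, ha', hb', add_zero]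
  inv_mem' := by
    rintro a ⟨ha, ha'⟩
    refine ⟨inv_mem ha, fun i => ?_⟩
    rw [RStr.e_inv M (h.V0V ha), Pi.neg_apply, Pi.neg_apply, ha', neg_zero]

omit h in
theorem mem_ln (h : Hyp M V₀) {v : G} : v ∈ ln M h ↔ v ∈ V₀ ∧ ∀ i, M.e v i 1 = 0 := Iff.rfl

theorem ln_le : ln M h ≤ ⨆ i, rr M V₀ i := by
  classical
  have key : ∀ s : Finset (Fin k), ∀ w ∈ V₀, (∀ i, M.e w i 1 = 0) → (∀ j, j ∉ s → M.e w j = 0) →
      w ∈ ⨆ i, rr M V₀ i := by
    intro s
    induction s using Finset.induction_on with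
    | empty =>
      intro w hw _ h0
      have : w = 1 := h.inj hw (one_mem _) (by
        rw [RStr.e_one M]
        funext j
        exact h0 j (Finset.notMem_empty j))
      rw [this]
      exact one_mem _
    | insert i s his ih =>
      intro w hw hl h0
      obtain ⟨v, hv, he⟩ := h.exists_rr i (M.e w i 0)
      have h1 : w * v⁻¹ ∈ ⨆ i, rr M V₀ i := by
        refine ih _ (mul_mem hw (inv_mem hv.1.1)) (fun j => ?_) fun j hj => ?_
        · rw [M.mul _ (h.V0V hw) _ (inv_mem hv.1.2.1), RStr.e_inv M hv.1.2.1, he, Pi.add_apply, Pi.neg_apply,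
            Pi.add_apply, Pi.neg_apply, hl]
          by_cases hji : j = i
          · rw [hji, Pi.single_eq_same]
            simp
          · rw [Pi.single_eq_of_ne hji]
            simp
        · rw [M.mul _ (h.V0V hw) _ (inv_mem hv.1.2.1), RStr.e_inv M hv.1.2.1, he, Pi.add_apply, Pi.neg_apply]
          by_cases hji : j = i
          · rw [hji, Pi.single_eq_same]
            funext l
            fin_cases l
            · change M.e w i 0 + -(M.e w i 0) = 0
              rw [add_neg_cancel]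
            · change M.e w i 1 + -0 = 0
              rw [hl, neg_zero, add_zero]
          · rw [Pi.single_eq_of_ne hji, neg_zero, add_zero]
            exact h0 j (by rw [Finset.mem_insert]; tauto)
      have h2 := mul_mem h1 ((le_iSup (rr M V₀) i) hv)
      rwa [inv_mul_cancel_right] at h2
  intro w hw
  exact key Finset.univ w hw.1 hw.2 fun j hj => absurd (Finset.mem_univ j) hj

variable [CharP F 2] (E : PairA (S : Subgroup G) P H)
include E

/-- **`[U, V] = R_1 × .. × R_k`** -/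
theorem mem_RR {r : G} : r ∈ RR (S : Subgroup G) P H ↔ r ∈ V₀ ∧ ∀ i, M.e r i 1 = 0 := by
  constructor
  · intro hr
    have h1 : RR (S : Subgroup G) P H ≤ ln M h := by
      refine commutator_le.2 fun u hu v hv => ?_
      obtain ⟨β, hβ, -⟩ := h.exists_beta E
      obtain ⟨w, hw, d, hd, rfl⟩ := h.exists_mul hv
      have hud : u * d * u⁻¹ = d := by
        rw [mem_centralizer_iff.1 (h.D_le_cent hd) u (h.UP E hu), mul_inv_cancel_right]
      have e1 : ⁅u, w * d⁆ = (u * w * u⁻¹) * w⁻¹ := by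
        rw [commutatorElement_def]
        calc u * (w * d) * u⁻¹ * (w * d)⁻¹ = (u * w * u⁻¹) * (u * d * u⁻¹) * d⁻¹ * w⁻¹ := by group
          _ = _ := by rw [hud, mul_inv_cancel_right]
      rw [e1]
      have h2 := h.conV0 (h.UP E hu) hw
      refine ⟨mul_mem h2 (inv_mem hw), fun i => ?_⟩
      rw [M.mul _ (h.V0V h2) _ (inv_mem (h.V0V hw)), RStr.e_inv M (h.V0V hw), Pi.add_apply, Pi.add_apply,
        hβ u hu w (h.V0V hw)]
      change M.e w i 1 + -(M.e w i 1) = 0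
      rw [add_neg_cancel]
    exact h1 hr
  · rintro hr
    have h1 : (⨆ i, rr M V₀ i) ≤ RR (S : Subgroup G) P H := by
      refine iSup_le fun i r hr => ?_
      obtain ⟨u, hu, huc⟩ := h.exists_u E i
      obtain ⟨v, hv, rfl⟩ := h.exists_cm E hu huc hr
      have h2 : ⁅u, v⁆ ∈ RR (S : Subgroup G) P H := commutator_mem_commutator hu hv.2.1
      have h3 := inv_mem h2
      rw [commutatorElement_def] at h3
      have e : (u * v * u⁻¹ * v⁻¹)⁻¹ = v * u * v⁻¹ * u⁻¹ := by group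
      rwa [e] at h3
    exact h1 (h.ln_le hr)

/-- `U` induces all upper unitriangular matrices. -/
theorem exists_upper (b : Fin k → F) : ∃ u ∈ zl (S : Subgroup G) H, ∀ v ∈ zl (S : Subgroup G) P, ∀ i,
    M.e (u * v * u⁻¹) i = ![M.e v i 0 + b i * M.e v i 1, M.e v i 1] := by
  have hF := h.finite_F
  have hs : RBig.AxRInst.Spl S P H D V₀ M := ⟨h.hc, h.data, E, h.kpos, h.V0V, h.PV0, h.disj, h.sup, h.DV,
    fun z hz h0 h1 => h.three h0 hz h1⟩
  obtain ⟨u, hu, hb⟩ := hs.ind h.big b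
  exact ⟨u, hu, fun v hv i => by rw [hb v hv i, ap_up']⟩

omit [CharP F 2] in
/-- `C_Z(P) ∩ C_Z(H) = 1` -/
theorem cent_bot {z : G} (hz : z ∈ zc (S : Subgroup G)) (hP : z ∈ centralizer (P : Set G))
    (hH : z ∈ centralizer (H : Set G)) : z = 1 := by
  by_contra h1
  have hL : IsLong (S : Subgroup G) (centralizer ({z} : Set G)) := isLong S hz h1
  have h2 : P ≤ centralizer ({z} : Set G) := fun g hg =>
    mem_centralizer_singleton_iff.2 (mem_centralizer_iff.1 hP g hg)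
  have h3 : H ≤ centralizer ({z} : Set G) := fun g hg =>
    mem_centralizer_singleton_iff.2 (mem_centralizer_iff.1 hH g hg)
  have h4 := (zl_abel h.hc S hL.loc).1
  exact E.ne ((RA.End.zl_mono h2).trans (h4.trans (centralizer_le (RA.End.zl_mono h3))))

omit E in
/-- an opposite element -/
theorem exists_w : ∃ w ∈ P, (∀ v ∈ zl (S : Subgroup G) P, ∀ i, M.e (w * v * w⁻¹) i = ![M.e v i 1, M.e v i 0]) ∧
    ∀ v ∈ zl (S : Subgroup G) P, ∀ i, M.e (w⁻¹ * v * w) i = ![M.e v i 1, M.e v i 0] := by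
  obtain ⟨w, hw, hA⟩ := M.lift fun _ => up 1 * lo 1 * up 1
  have h1 : ∀ v ∈ zl (S : Subgroup G) P, ∀ i, M.e (w * v * w⁻¹) i = ![M.e v i 1, M.e v i 0] := by
    intro v hv i
    rw [hA.1 v hv i, ap_mul, ap_mul, ap_up' 1 (M.e v i), ap_lo', ap_up']
    have h2 : ∀ x : F, x + x = 0 := CharTwo.add_self_eq_zero
    funext l
    fin_cases l
    · change M.e v i 0 + 1 * M.e v i 1 + 1 * (1 * (M.e v i 0 + 1 * M.e v i 1) + M.e v i 1) = M.e v i 1
      linear_combination h2 (M.e v i 0) + h2 (M.e v i 1)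
    · change 1 * (M.e v i 0 + 1 * M.e v i 1) + M.e v i 1 = M.e v i 0
      linear_combination h2 (M.e v i 1)
  refine ⟨w, hw, h1, fun v hv i => ?_⟩
  have h2 : w⁻¹ * v * w ∈ zl (S : Subgroup G) P := by
    have := conV (S := S) (P := P) (inv_mem hw) hv
    rwa [inv_inv] at this
  have h3 := h1 _ h2 i
  have e : w * (w⁻¹ * v * w) * w⁻¹ = v := by group
  rw [e] at h3
  rw [h3]
  funext l
  fin_cases l <;> rfl

/-- `V = (V ∩ U) R^w` -/
theorem exists_decw {w v : G} (hw : w ∈ P)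
    (hwv : ∀ v ∈ zl (S : Subgroup G) P, ∀ i, M.e (w * v * w⁻¹) i = ![M.e v i 1, M.e v i 0])
    (hv : v ∈ zl (S : Subgroup G) P) :
    ∃ a ∈ zl (S : Subgroup G) H, ∃ r ∈ RR (S : Subgroup G) P H, v = a * (w * r * w⁻¹) := by
  obtain ⟨v₀, hv₀, d, hd, rfl⟩ := h.exists_mul hv
  obtain ⟨r, hr, he⟩ := h.surj fun i => ![M.e v₀ i 1, 0]
  have hrR : r ∈ RR (S : Subgroup G) P H := (h.mem_RR E).2 ⟨hr, fun i => by rw [he]; rfl⟩
  have hwr : w * r * w⁻¹ ∈ V₀ := h.conV0 hw hr
  refine ⟨v₀ * d * (w * r * w⁻¹)⁻¹, ?_, r, hrR, by group⟩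
  have e1 : v₀ * d * (w * r * w⁻¹)⁻¹ = (v₀ * (w * r * w⁻¹)⁻¹) * d := by
    rw [mul_assoc v₀ d, mul_assoc v₀, h.commV (h.DV hd) (inv_mem (h.V0V hwr))]
  rw [e1]
  refine mul_mem ?_ (zc_le_zl _ _ (h.D_le_zc hd))
  have h1 : v₀ * (w * r * w⁻¹)⁻¹ ∈ RR (S : Subgroup G) P H := by
    refine (h.mem_RR E).2 ⟨mul_mem hv₀ (inv_mem hwr), fun i => ?_⟩
    rw [M.mul _ (h.V0V hv₀) _ (inv_mem (h.V0V hwr)), RStr.e_inv M (h.V0V hwr), Pi.add_apply, Pi.add_apply,
      Pi.neg_apply, Pi.neg_apply, hwv r (h.V0V hr), he]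
    change M.e v₀ i 1 + -(M.e v₀ i 1) = 0
    rw [add_neg_cancel]
  exact (h.ln_le ((h.mem_RR E).1 h1) |> fun h2 => (iSup_le fun i => h.rr_le_U E i :
    (⨆ i, rr M V₀ i) ≤ zl (S : Subgroup G) H) h2)

/-- **The opposite element**: fields `hw`, `Vw`, `Vw'`, `op`, `opR` of `EndB`. -/
theorem exists_opp {f : G} (hf : f ∈ zc (S : Subgroup G) ⊓ centralizer (H : Set G)) (hf1 : f ≠ 1) :
    ∃ w ∈ P, (∀ v ∈ zl (S : Subgroup G) P, ∃ a ∈ zl (S : Subgroup G) H, ∃ r ∈ RR (S : Subgroup G) P H,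
        v = a * (w * r * w⁻¹)) ∧
      (∀ v ∈ zl (S : Subgroup G) P, ∃ a ∈ zl (S : Subgroup G) H, ∃ r ∈ RR (S : Subgroup G) P H,
        v = a * (w⁻¹ * r * w)) ∧
      (∀ r ∈ RR (S : Subgroup G) P H, ∃ u ∈ zl (S : Subgroup G) H,
        (w⁻¹ * u * w) * f * (w⁻¹ * u * w)⁻¹ = f * (w⁻¹ * r * w)) ∧
      ∀ x ∈ RR (S : Subgroup G) P H, (∀ u ∈ zl (S : Subgroup G) H, (w⁻¹ * u * w) * x = x * (w⁻¹ * u * w)) →
        x = 1 := by
  obtain ⟨w, hw, h1, h2⟩ := h.exists_w
  refine ⟨w, hw, fun v hv => h.exists_decw E hw h1 hv, fun v hv => ?_, fun r hr => ?_, fun x hx hux => ?_⟩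
  · have h3 := h.exists_decw E (w := w⁻¹) (inv_mem hw) (fun v hv i => by rw [inv_inv]; exact h2 v hv i) hv
    simpa only [inv_inv] using h3
  · -- `f = z' d`
    obtain ⟨z', hz', d, hd, rfl⟩ := h.exists_mul (zc_le_zl _ _ hf.1)
    have hz'Z : z' ∈ zc (S : Subgroup G) := by
      have := (zc (S : Subgroup G)).mul_mem hf.1 ((zc (S : Subgroup G)).inv_mem (h.D_le_zc hd))
      rwa [mul_inv_cancel_right] at this
    have hz'1 : z' ≠ 1 := by
      rintro rfl
      apply hf1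
      rw [one_mul] at hf ⊢
      exact h.cent_bot E hf.1 (h.D_le_cent hd) hf.2
    have he := h.e_z0 E hz' hz'Z hz'1
    have hr' := (h.mem_RR E).1 hr
    obtain ⟨u, hu, hb⟩ := h.exists_upper E fun i => (M.e z' i 0)⁻¹ * M.e r i 0
    refine ⟨u, hu, ?_⟩
    have hwz : w * z' * w⁻¹ ∈ V₀ := h.conV0 hw hz'
    have key : u * (w * z' * w⁻¹) * u⁻¹ = (w * z' * w⁻¹) * r := by
      refine h.inj (h.conV0 (h.UP E hu) hwz) (mul_mem hwz hr'.1) ?_
      rw [M.mul _ (h.V0V hwz) _ (h.V0V hr'.1)]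
      funext i
      rw [hb _ (h.V0V hwz), Pi.add_apply, h1 z' (h.V0V hz')]
      funext l
      fin_cases l
      · change M.e z' i 1 + (M.e z' i 0)⁻¹ * M.e r i 0 * M.e z' i 0 = M.e z' i 1 + M.e r i 0
        rw [mul_comm _ (M.e r i 0), mul_assoc, inv_mul_cancel₀ (he i).1, mul_one]
      · change M.e z' i 0 = M.e z' i 0 + M.e r i 1
        rw [hr'.2, add_zero]
    have hdw : w * d * w⁻¹ = d := by
      rw [mem_centralizer_iff.1 (h.D_le_cent hd) w hw, mul_inv_cancel_right]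
    have hdu : u * d * u⁻¹ = d := by
      rw [mem_centralizer_iff.1 (h.D_le_cent hd) u (h.UP E hu), mul_inv_cancel_right]
    have hrd : r * d = d * r := h.commV (h.V0V hr'.1) (h.DV hd)
    calc (w⁻¹ * u * w) * (z' * d) * (w⁻¹ * u * w)⁻¹
        = w⁻¹ * (u * (w * z' * w⁻¹) * u⁻¹) * (u * (w * d * w⁻¹) * u⁻¹) * w := by group
      _ = w⁻¹ * ((w * z' * w⁻¹) * r) * d * w := by rw [key, hdw, hdu]
      _ = w⁻¹ * (w * z' * w⁻¹) * (r * d) * w := by group
      _ = z' * (w⁻¹ * d * w) * (w⁻¹ * r * w) := by rw [hrd]; group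
      _ = _ := by
        have e : w⁻¹ * d * w = d := by
          rw [mul_assoc, ← mem_centralizer_iff.1 (h.D_le_cent hd) w hw, inv_mul_cancel_left]
        rw [e]
  · have hx' := (h.mem_RR E).1 hx
    obtain ⟨u, hu, hb⟩ := h.exists_upper E fun _ => 1
    have h3 := hux u hu
    have h4 : u * (w * x * w⁻¹) * u⁻¹ = w * x * w⁻¹ := by
      have h5 := congrArg (fun t => w * t * w⁻¹ * u⁻¹) h3
      simpa [mul_assoc] using h5
    refine h.inj hx'.1 (one_mem _) ?_
    rw [RStr.e_one M]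
    funext i l
    have h5 := hb _ (h.V0V (h.conV0 hw hx'.1)) i
    rw [h4, h1 x (h.V0V hx'.1)] at h5
    have h6 := congrFun h5 0
    change M.e x i 1 = M.e x i 1 + 1 * M.e x i 0 at h6
    rw [one_mul] at h6
    fin_cases l
    · exact left_eq_add.1 h6
    · exact hx'.2 i

end Hyp

end Cfsg.Agent.Omega.NOThreeL.RSplit

end
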